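import Groth.Agent.H23.RedSub
import Groth.Agent.CdFin.Devissage
import Groth.Agent.EtFound.PushExact
import Groth.Agent.EtFound.Presentation
import Groth.Agent.RatCoh13.Main
import Groth.Agent.S0171

/-! dévissage along a dimension function on integral schemes finite over a base: set up -/

set_option autoImplicit false
set_option linter.style.haveILetI false
set_option linter.unusedSectionVars false
set_option backward.isDefEq.respectTransparency false
set_option backward.isDefEq.respectTransparency.types false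

universe u

open CategoryTheory CategoryTheory.Limits AlgebraicGeometry Opposite CategoryTheory.Abelian TopologicalSpace

namespace Groth.Agent.EtDev

open Groth.Agent.EtFound Groth.Agent.CdFin

variable {X : Scheme.{u}}

/-- the reduced closure of a point -/
noncomputable def Cl {Y : Scheme.{u}} (y : Y) : Scheme.{u} :=
  (Scheme.IdealSheafData.vanishingIdeal (Closeds.closure {y})).subscheme

/-- the inclusion of the reduced closure of a point -/
noncomputable def clι {Y : Scheme.{u}} (y : Y) : Cl y ⟶ Y :=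
  (Scheme.IdealSheafData.vanishingIdeal (Closeds.closure {y})).subschemeι

instance {Y : Scheme.{u}} (y : Y) : IsClosedImmersion (clι y) :=
  inferInstanceAs (IsClosedImmersion (Scheme.IdealSheafData.vanishingIdeal (Closeds.closure {y})).subschemeι)

theorem range_clι {Y : Scheme.{u}} (y : Y) : Set.range (clι y).base = closure {y} :=
  H23.RedSub.range_vanishingIdeal _

instance {Y : Scheme.{u}} (y : Y) : IsIntegral (Cl y) := by
  set J := Scheme.IdealSheafData.vanishingIdeal (Closeds.closure {y})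
  have hr : Set.range J.subschemeι = closure {y} := range_clι y
  obtain ⟨z, hz⟩ : y ∈ Set.range J.subschemeι := hr ▸ subset_closure rfl
  have hd : closure {z} = (Set.univ : Set J.subscheme) := by
    rw [J.subschemeι.isClosedEmbedding.isInducing.closure_eq_preimage_closure_image,
      Set.image_singleton, hz, ← hr, Set.preimage_range]
  have : IrreducibleSpace J.subscheme :=
    (irreducibleSpace_def _).2 (show IsIrreducible (Set.univ : Set J.subscheme) from
      hd ▸ isIrreducible_singleton.closure)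
  exact isIntegral_of_irreducibleSpace_of_isReduced J.subscheme

/-- the value of the function at a point of a scheme over `X` -/
noncomputable def ptPhi (φ : ∀ Y : Scheme.{u}, (Y ⟶ X) → ℕ) {Y : Scheme.{u}} (g : Y ⟶ X) (y : Y) : ℕ :=
  φ (Cl y) (clι y ≫ g)

/-- the hypotheses on the function -/
structure Hyp (ℓ : ℕ) (φ : ∀ Y : Scheme.{u}, (Y ⟶ X) → ℕ) : Prop where
  mono : ∀ (Y₁ Y₂ : Scheme.{u}) (g₁ : Y₁ ⟶ X) (g₂ : Y₂ ⟶ X) [IsIntegral Y₁] [IsIntegral Y₂] [IsFinite g₁]
    [IsFinite g₂] (m : Y₁ ⟶ Y₂), m ≫ g₂ = g₁ →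
      φ Y₁ g₁ ≤ φ Y₂ g₂ ∧ (IsClosedImmersion m → ¬ IsIso m → φ Y₁ g₁ < φ Y₂ g₂)
  vanish : ∀ (Y : Scheme.{u}) (g : Y ⟶ X) [IsIntegral Y] [IsFinite g] (q : ℕ), φ Y g < q →
    Subsingleton (EtCoh.H Y (EtCoh.const Y (ZMod ℓ)) q)

variable {ℓ : ℕ} {φ : ∀ Y : Scheme.{u}, (Y ⟶ X) → ℕ} {Y : Scheme.{u}} (g : Y ⟶ X) [IsFinite g]

theorem Hyp.ptPhi_map (h : Hyp ℓ φ) {Y' : Scheme.{u}} (ν : Y' ⟶ Y) [IsFinite ν] (y' : Y') :
    ptPhi φ (ν ≫ g) y' ≤ ptPhi φ g (ν.base y') := by
  obtain ⟨m, hm⟩ := H23.RedSub.exists_lift_closed (clι y' ≫ ν) (clι (ν.base y')) (by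
    rw [range_clι]
    rintro _ ⟨z, rfl⟩
    have hz : (clι y').base z ∈ closure {y'} := range_clι y' ▸ ⟨z, rfl⟩
    rw [← specializes_iff_mem_closure] at hz ⊢
    rw [Scheme.Hom.comp_apply]
    exact hz.map ν.continuous)
  haveI : IsFinite (clι y' ≫ ν ≫ g) := inferInstance
  exact (h.mono _ _ (clι y' ≫ ν ≫ g) (clι (ν.base y') ≫ g) m (by
    rw [← Category.assoc, hm, Category.assoc])).1

theorem Hyp.ptPhi_le (h : Hyp ℓ φ) [IsIntegral Y] (y : Y) : ptPhi φ g y ≤ φ Y g :=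
  (h.mono _ _ (clι y ≫ g) g (clι y) rfl).1

theorem Hyp.ptPhi_lt_of_isIntegral (h : Hyp ℓ φ) [IsIntegral Y] {y : Y} (hy : y ≠ genericPoint Y) :
    ptPhi φ g y < φ Y g := by
  refine (h.mono _ _ (clι y ≫ g) g (clι y) rfl).2 inferInstance fun hi => hy ?_
  haveI := hi
  have hs : genericPoint Y ∈ Set.range (clι y).base := (clι y).surjective _
  rw [range_clι, ← specializes_iff_mem_closure] at hs
  exact (hs.antisymm (genericPoint_specializes y)).eq

theorem Hyp.ptPhi_lt (h : Hyp ℓ φ) {y y' : Y} (hs : y ⤳ y') (hne : y ≠ y') :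
    ptPhi φ g y' < ptPhi φ g y := by
  obtain ⟨z, hz⟩ : y' ∈ Set.range (clι y).base := by
    rw [range_clι]
    exact hs.mem_closure
  subst hz
  obtain ⟨w, hw⟩ : y ∈ Set.range (clι y).base := by
    rw [range_clι]
    exact subset_closure rfl
  obtain ⟨m, hm⟩ := H23.RedSub.exists_lift_closed (clι ((clι y).base z)) (clι y) (by
    rw [range_clι, range_clι]
    exact closure_minimal (Set.singleton_subset_iff.2 hs.mem_closure) isClosed_closure)
  haveI : IsClosedImmersion m := by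
    haveI : IsClosedImmersion (m ≫ clι y) := hm.symm ▸ inferInstance
    exact IsClosedImmersion.of_comp m (clι y)
  refine (h.mono _ _ (clι ((clι y).base z) ≫ g) (clι y ≫ g) m (by
    rw [← Category.assoc, hm])).2 inferInstance fun hi => hne ?_
  haveI := hi
  obtain ⟨v, hv⟩ := m.surjective w
  have : y ∈ Set.range (clι ((clι y).base z)).base := ⟨v, by rw [← hm, Scheme.Hom.comp_apply, hv, hw]⟩
  rw [range_clι, ← specializes_iff_mem_closure] at this
  exact (hs.antisymm this).eq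

theorem Hyp.ptPhi_mono (h : Hyp ℓ φ) {y y' : Y} (hs : y ⤳ y') : ptPhi φ g y' ≤ ptPhi φ g y := by
  by_cases he : y = y'
  · rw [he]
  · exact (h.ptPhi_lt g hs he).le

variable (ℓ φ) in
/-- killed sheaves supported where the function is `< e` have no cohomology from degree `e` on -/
def Van (e : ℕ) : Prop :=
  ∀ (Y : Scheme.{u}) (g : Y ⟶ X) [IsFinite g] (F : EtCoh.Ab Y), ℓ • 𝟙 F = 0 →
    EtPBC.supp F ⊆ {y | ptPhi φ g y < e} → ∀ q, e ≤ q → Subsingleton (EtCoh.H Y F q)

theorem nsmul_id_of_mono {A B : EtCoh.Ab Y} (ι : A ⟶ B) [Mono ι] {n : ℕ} (h : n • 𝟙 B = 0) : n • 𝟙 A = 0 := by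
  rw [← cancel_mono ι, zero_comp, Preadditive.nsmul_comp, Category.id_comp, ← Category.comp_id ι,
    ← Preadditive.comp_nsmul, h, comp_zero]

theorem nsmul_id_of_epi {A B : EtCoh.Ab Y} (π : A ⟶ B) [Epi π] {n : ℕ} (h : n • 𝟙 A = 0) : n • 𝟙 B = 0 := by
  rw [← cancel_epi π, comp_zero, Preadditive.comp_nsmul, Category.comp_id, ← Category.id_comp π,
    ← Preadditive.nsmul_comp, h, zero_comp]

variable {d : ℕ}

theorem subsingleton_H_kernel (ih : Van ℓ φ d) {A B : EtCoh.Ab Y} (ψ : A ⟶ B) (hA : ℓ • 𝟙 A = 0)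
    (hψ : ∀ (Ω : Type u) [Field Ω] [IsSepClosed Ω] (ξ : Spec (CommRingCat.of Ω) ⟶ Y),
      d ≤ ptPhi φ g (ξ.base (default : Spec (CommRingCat.of Ω))) → IsIso ((EtCoh.stalk ξ).map ψ))
    (q : ℕ) (hq : d ≤ q) : Subsingleton (EtCoh.H Y (kernel ψ) q) := by
  refine ih Y g _ (nsmul_id_of_mono (kernel.ι ψ) hA) (mem_of_supp fun Ω _ _ ξ hξ => ?_) q hq
  haveI := hψ Ω ξ (not_lt.1 hξ)
  refine IsZero.of_mono_eq_zero ((EtCoh.stalk ξ).map (kernel.ι ψ)) ?_
  rw [← cancel_mono ((EtCoh.stalk ξ).map ψ), ← Functor.map_comp, kernel.condition, Functor.map_zero, zero_comp]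

theorem subsingleton_H_cokernel (ih : Van ℓ φ d) {A B : EtCoh.Ab Y} (ψ : A ⟶ B) (hB : ℓ • 𝟙 B = 0)
    (hψ : ∀ (Ω : Type u) [Field Ω] [IsSepClosed Ω] (ξ : Spec (CommRingCat.of Ω) ⟶ Y),
      d ≤ ptPhi φ g (ξ.base (default : Spec (CommRingCat.of Ω))) → IsIso ((EtCoh.stalk ξ).map ψ))
    (q : ℕ) (hq : d ≤ q) : Subsingleton (EtCoh.H Y (cokernel ψ) q) := by
  refine ih Y g _ (nsmul_id_of_epi (cokernel.π ψ) hB) (mem_of_supp fun Ω _ _ ξ hξ => ?_) q hq
  haveI := hψ Ω ξ (not_lt.1 hξ)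
  refine IsZero.of_epi_eq_zero ((EtCoh.stalk ξ).map (cokernel.π ψ)) ?_
  rw [← cancel_epi ((EtCoh.stalk ξ).map ψ), ← Functor.map_comp, cokernel.condition, Functor.map_zero, comp_zero]

theorem imageSeq_left {A B : EtCoh.Ab Y} (ψ : A ⟶ B) :
    ∃ w : kernel.ι ψ ≫ Abelian.factorThruImage ψ = 0, (ShortComplex.mk _ _ w).ShortExact := by
  have w : kernel.ι ψ ≫ Abelian.factorThruImage ψ = 0 := by
    rw [← cancel_mono (Abelian.image.ι ψ), Category.assoc, Abelian.image.fac, kernel.condition, zero_comp]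
  exact ⟨w,
    { exact := ShortComplex.exact_of_f_is_kernel _ (KernelFork.IsLimit.ofι' _ _ fun {W} k hk => by
        refine ⟨kernel.lift ψ k ?_, kernel.lift_ι _ _ _⟩
        rw [← Abelian.image.fac ψ, ← Category.assoc, hk, zero_comp]) }⟩

theorem imageSeq_right {A B : EtCoh.Ab Y} (ψ : A ⟶ B) :
    (ShortComplex.mk (Abelian.image.ι ψ) (cokernel.π ψ) (kernel.condition _)).ShortExact :=
  { exact := ShortComplex.exact_of_f_is_kernel _ (kernelIsKernel _) }

theorem subsingleton_H_right' {S : ShortComplex (EtCoh.Ab Y)} (hS : S.ShortExact) (q : ℕ)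
    (h2 : Subsingleton (EtCoh.H Y S.X₂ q)) (h1 : Subsingleton (EtCoh.H Y S.X₁ (q + 1))) :
    Subsingleton (EtCoh.H Y S.X₃ q) := by
  refine subsingleton_of_forall_eq 0 fun x => ?_
  obtain ⟨y, rfl⟩ := Ext.covariant_sequence_exact₃ _ hS x rfl (@Subsingleton.elim _ h1 _ _)
  rw [@Subsingleton.elim _ h2 y 0, Ext.zero_comp]

/-- vanishing moves back along a map which is bijective where the function is large -/
theorem subsingleton_H_source (ih : Van ℓ φ d) {A B : EtCoh.Ab Y} (ψ : A ⟶ B) (hA : ℓ • 𝟙 A = 0)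
    (hB : ℓ • 𝟙 B = 0)
    (hψ : ∀ (Ω : Type u) [Field Ω] [IsSepClosed Ω] (ξ : Spec (CommRingCat.of Ω) ⟶ Y),
      d ≤ ptPhi φ g (ξ.base (default : Spec (CommRingCat.of Ω))) → IsIso ((EtCoh.stalk ξ).map ψ))
    (q : ℕ) (hq : d + 1 ≤ q) (h : Subsingleton (EtCoh.H Y B q)) : Subsingleton (EtCoh.H Y A q) := by
  obtain ⟨q, rfl⟩ : ∃ q', q = q' + 1 := ⟨q - 1, by omega⟩
  obtain ⟨w, hw⟩ := imageSeq_left ψ
  exact RatCoh13.subsingleton_H_middle hw (q + 1) (subsingleton_H_kernel g ih ψ hA hψ _ (by omega))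
    (RatCoh13.subsingleton_H_left (imageSeq_right ψ) q h (subsingleton_H_cokernel g ih ψ hB hψ q (by omega)))

/-- vanishing moves forward along a map which is bijective where the function is large -/
theorem subsingleton_H_target (ih : Van ℓ φ d) {A B : EtCoh.Ab Y} (ψ : A ⟶ B) (hA : ℓ • 𝟙 A = 0)
    (hB : ℓ • 𝟙 B = 0)
    (hψ : ∀ (Ω : Type u) [Field Ω] [IsSepClosed Ω] (ξ : Spec (CommRingCat.of Ω) ⟶ Y),
      d ≤ ptPhi φ g (ξ.base (default : Spec (CommRingCat.of Ω))) → IsIso ((EtCoh.stalk ξ).map ψ))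
    (q : ℕ) (hq : d ≤ q) (h : Subsingleton (EtCoh.H Y A q)) : Subsingleton (EtCoh.H Y B q) := by
  obtain ⟨w, hw⟩ := imageSeq_left ψ
  exact RatCoh13.subsingleton_H_middle (imageSeq_right ψ) q
    (subsingleton_H_right' hw q h (subsingleton_H_kernel g ih ψ hA hψ _ (by omega)))
    (subsingleton_H_cokernel g ih ψ hB hψ q hq)

/-- cohomology of a direct image along a finite morphism -/
theorem subsingleton_H_push_finite {Z : Scheme.{u}} (ν : Z ⟶ Y) [IsFinite ν] (G : EtCoh.Ab Z) (q : ℕ)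
    (h : Subsingleton (EtCoh.H Z G q)) : Subsingleton (EtCoh.H Y ((EtCoh.push ν).obj G) q) := by
  haveI := EtFound.push_preservesFiniteLimits ν
  haveI := EtFound.push_preservesFiniteColimits ν
  haveI := pull_preservesFiniteLimits ν
  refine @Function.Surjective.subsingleton _ _ _ ?_
    (EtMVLib.adjExtMap_bijective (EtCoh.pullPushAdj ν) (EtCoh.const Y ℤ) G q).2
  refine subsingleton_of_forall_eq 0 fun α => ?_
  let e := EtCore.pullConst ν ℤ
  have h0 : (Ext.mk₀ e.inv).comp α (zero_add q) = 0 := @Subsingleton.elim _ h _ _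
  have h1 := congrArg (fun z => (Ext.mk₀ e.hom).comp z (zero_add q)) h0
  simpa [Ext.mk₀_comp_mk₀_assoc] using h1

end Groth.Agent.EtDev
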