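import Groth.Agent.EtDev.Core
import Groth.Agent.EtFound.UnivInjPush
import Groth.Agent.GalCd13.TrdegPrimary
import Groth.Agent.TraceFin.Etale
import Groth.Agent.S0653
import Groth.Agent.S0657
import Groth.Agent.S0385
import Groth.Agent.EtFound.JContGen

/-! dévissage with a uniform bound: reduction to extensions by zero of constant sheaves -/

set_option autoImplicit false
set_option linter.style.haveILetI false
set_option linter.unusedSectionVars false
set_option backward.isDefEq.respectTransparency false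
set_option backward.isDefEq.respectTransparency.types false
set_option maxHeartbeats 1600000

universe u

open CategoryTheory CategoryTheory.Limits AlgebraicGeometry Opposite CategoryTheory.Abelian TopologicalSpace

namespace Groth.Agent.EtDev

open Groth.Agent.EtFound Groth.Agent.CdFin

variable {X : Scheme.{u}} {ℓ : ℕ} [IsNoetherian X]

variable (X ℓ) in
/-- vanishing in degree `q` of extensions by zero of `ℤ/ℓ` from opens of schemes finite over the base -/
def ConstVan (q : ℕ) : Prop :=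
  ∀ (Y : Scheme.{u}) (g : Y ⟶ X) [IsFinite g] (T : Scheme.{u}) (j : T ⟶ Y) [IsOpenImmersion j] [EtShriek.JCont j],
    Subsingleton (EtCoh.H Y ((EtShriek.extZero j).obj (EtCoh.const T (ZMod ℓ))) q)

/-- extensions by zero of locally constant sheaves from opens of integral schemes -/
theorem subsingleton_H_extZero_flcU [Fact ℓ.Prime] {q : ℕ} (hV : ConstVan X ℓ q) {Z : Scheme.{u}}
    (g : Z ⟶ X) [IsIntegral Z] [IsFinite g] {U : Scheme.{u}} (j : U ⟶ Z) [IsOpenImmersion j]
    [Nonempty U] [EtShriek.JCont j] (L : EtCoh.Ab U) (hL : EtCoh.IsFiniteLocallyConstant L) (hℓ : ℓ • 𝟙 L = 0)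
    : Subsingleton (EtCoh.H Z ((EtShriek.extZero j).obj L) q) := by
  haveI := isNoetherian_of_isFinite g
  haveI : IsIntegral U := isIntegral_of_isOpenImmersion j
  haveI : ConnectedSpace ↥U := inferInstance
  obtain ⟨T, f, hf, hfe, n, hn, hcard, m, G, c, hG0, ⟨eG⟩, hG⟩ := S0657.result U ℓ L hL ((killedBy_iff_nsmul _ _).2 hℓ)
  obtain ⟨k, hk⟩ : ∃ k : ℕ, k * n % ℓ = 1 % ℓ := by
    obtain ⟨k, hk⟩ := Nat.exists_mul_mod_eq_one_of_coprime hn.symm (Fact.out : ℓ.Prime).one_lt
    exact ⟨k, by rw [mul_comm, hk.2, Nat.mod_eq_of_lt (Fact.out : ℓ.Prime).one_lt]⟩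
  have hmul : ∀ a : ℕ, a • 𝟙 L = (a % ℓ) • 𝟙 L := fun a => by
    conv_lhs => rw [← Nat.mod_add_div a ℓ]
    rw [add_nsmul, mul_comm, mul_nsmul', hℓ, nsmul_zero, add_zero]
  have hret : (EtCoh.pullPushAdj f).unit.app L ≫ (k • (TraceFin.Tr f).app L) = 𝟙 L := by
    rw [Preadditive.comp_nsmul, TraceFin.unit_Tr f n (TraceFin.finrank_eq_of_natCard f hcard) L]
    refine (mul_nsmul' (𝟙 L) k n).symm.trans ?_
    rw [hmul, hk, ← hmul, one_nsmul]
  refine subsingleton_H_of_retract ((EtShriek.extZero j).map ((EtCoh.pullPushAdj f).unit.app L))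
    ((EtShriek.extZero j).map (k • (TraceFin.Tr f).app L))
    ((((EtShriek.extZero j).map_comp _ _).symm.trans (congrArg (EtShriek.extZero j).map hret)).trans
      ((EtShriek.extZero j).map_id L)) q ?_
  obtain ⟨Z', ν, hν, j', hj', hpb, hout⟩ := exists_finite_extension j f
  haveI : EtShriek.JCont j' := EtFound.jCont j'
  obtain ⟨e⟩ := S0653.result ν j j' f hpb ((EtCoh.pull f).obj L)
  refine RatCoh13.subsingleton_H_of_iso e q (subsingleton_H_push_finite ν _ q ?_)
  haveI := EtFound.extZero_preservesFiniteLimits j'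
  haveI : (EtShriek.extZero j').IsLeftAdjoint := (EtShriek.extZeroAdj j').isLeftAdjoint
  haveI : PreservesFiniteColimits (EtShriek.extZero j') := by
    haveI : PreservesColimitsOfSize.{0, 0} (EtShriek.extZero j') :=
      (EtShriek.extZeroAdj j').leftAdjoint_preservesColimits
    exact PreservesColimitsOfSize.preservesFiniteColimits _
  haveI : (EtShriek.extZero j').Additive := Functor.additive_of_preserves_binary_products _
  have hall : ∀ i, i ≤ m → Subsingleton (EtCoh.H Z' ((EtShriek.extZero j').obj (G i)) q) := by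
    intro i
    induction i with
    | zero => exact fun _ => subsingleton_H_of_isZero ((EtShriek.extZero j').map_isZero hG0) q
    | succ i ihi =>
      intro hi
      obtain ⟨hm, ⟨ec⟩⟩ := hG i hi
      let S := ShortComplex.mk (c i) (cokernel.π (c i)) (cokernel.condition _)
      have hS : S.ShortExact :=
        { exact := ShortComplex.exact_of_g_is_cokernel _ (cokernelIsCokernel _) }
      exact RatCoh13.subsingleton_H_middle (hS.map_of_exact (EtShriek.extZero j')) q (ihi (by omega))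
        (RatCoh13.subsingleton_H_of_iso ((EtShriek.extZero j').mapIso ec).symm q
          (hV Z' (ν ≫ g) T j'))
  exact RatCoh13.subsingleton_H_of_iso ((EtShriek.extZero j').mapIso eG) q (hall m le_rfl)

/-- the inductive step for constructible sheaves on a closed subset -/
theorem subsingleton_H_step [Fact ℓ.Prime] {q : ℕ} (hV : ConstVan X ℓ q) {Y : Scheme.{u}} (g : Y ⟶ X) [IsFinite g]
    {C : Set Y} (hC : IsClosed C) (hne : C.Nonempty)
    (IH : ∀ R : Set Y, IsClosed R → R ⊂ C → ∀ F : EtCoh.Ab Y, ℓ • 𝟙 F = 0 → EtPBC.supp F ⊆ R →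
      Subsingleton (EtCoh.H Y F q))
    (G : EtCoh.Ab Y) (hG : EtPBC.IsConstructible G) (hℓ : ℓ • 𝟙 G = 0) (hs : EtPBC.supp G ⊆ C) :
    Subsingleton (EtCoh.H Y G q) := by
  haveI := isNoetherian_of_isFinite g
  obtain ⟨S, hSf, hSc, hSi, hSZ⟩ := TopologicalSpace.NoetherianSpace.exists_finite_set_isClosed_irreducible hC
  obtain ⟨x₀, hx₀⟩ := hne
  rw [hSZ] at hx₀
  obtain ⟨t₀, ht₀, -⟩ := Set.mem_sUnion.1 hx₀
  obtain ⟨t₁, ht₁, hmax⟩ := Set.Finite.exists_maximalFor id S hSf ⟨t₀, ht₀⟩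
  have hg := (hSi t₁ ht₁).isGenericPoint_genericPoint (hSc t₁ ht₁)
  set η := (hSi t₁ ht₁).genericPoint
  have hηcl : closure {η} = t₁ := hg
  let D : Set Y := ⋃₀ {t ∈ S | t ≠ t₁}
  have hDc : IsClosed D := by
    show IsClosed (⋃₀ _)
    rw [Set.sUnion_eq_biUnion]
    exact Set.Finite.isClosed_biUnion (hSf.subset fun t ht => ht.1) fun t ht => hSc t ht.1
  have hηD : η ∉ D := by
    rintro ⟨t, ⟨ht, hne'⟩, hηt⟩
    have h1 : t₁ ⊆ t := hηcl ▸ closure_minimal (Set.singleton_subset_iff.2 hηt) (hSc t ht)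
    exact hne' (subset_antisymm (hmax ht h1) h1)
  have hηC : η ∈ C := hSZ ▸ Set.mem_sUnion.2 ⟨t₁, ht₁, hg.mem⟩
  let c := clι η
  have hcr : Set.range c.base = t₁ := (range_clι η).trans hηcl
  obtain ⟨z₀, hz₀⟩ : η ∈ Set.range c.base := hcr ▸ hg.mem
  haveI := BCCrit13.pull_additive c
  obtain ⟨P, hP, T, t, ht, hr, hT⟩ := exists_generic_piece (isConstructible_pull c hG) z₀
  have hgen : closure {z₀} = (Set.univ : Set ↥(Cl η)) := by
    rw [c.isClosedEmbedding.isInducing.closure_eq_preimage_closure_image, Set.image_singleton, hz₀, hηcl, ← hcr,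
      Set.preimage_range]
  obtain ⟨O', hO', hO'P⟩ := c.isClosedEmbedding.isInducing.isOpen_iff.1 P.2
  let O : Set Y := O' ∩ Dᶜ
  have hOo : IsOpen O := hO'.inter hDc.isOpen_compl
  let V : (Cl η).Opens := ⟨c.base ⁻¹' O, hOo.preimage c.continuous⟩
  have hz₀O' : c.base z₀ ∈ O' := by
    have : z₀ ∈ c.base ⁻¹' O' := hO'P ▸ hP
    exact this
  have hηO : η ∈ O := ⟨hz₀ ▸ hz₀O', hηD⟩
  have hV₀ : z₀ ∈ V := show c.base z₀ ∈ O by rw [hz₀]; exact hηO
  have hVP : (V : Set ↥(Cl η)) ⊆ Set.range t.base := by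
    rw [hr, hgen, Set.inter_univ]
    intro z hz
    exact (Set.ext_iff.1 hO'P z).1 hz.1
  obtain ⟨s, hs'⟩ := H23.RedSub.exists_lift V.ι t (by rw [Scheme.Opens.range_ι]; exact hVP)
  have hFLC : EtCoh.IsFiniteLocallyConstant ((EtCoh.pull V.ι).obj ((EtCoh.pull c).obj G)) := by
    refine isFiniteLocallyConstant_of_iso ?_ (isFiniteLocallyConstant_pull s hT)
    exact ((pullCompAb s t).app _).symm ≪≫ eqToIso (congrArg (fun k => (EtCoh.pull k).obj _) hs')
  haveI : Nonempty ↥V.toScheme := ⟨⟨z₀, hV₀⟩⟩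
  haveI : EtShriek.JCont V.ι := EtFound.jCont V.ι
  -- the closed complement
  let R : Set Y := C \ O
  have hRc : IsClosed R := hC.inter hOo.isClosed_compl
  have hRC : R ⊂ C := ⟨Set.sdiff_subset, fun h => (h hηC).2 hηO⟩
  let I := Scheme.IdealSheafData.vanishingIdeal (X := Y) ⟨R, hRc⟩
  let i := I.subschemeι
  have hir : Set.range i.base = R := H23.RedSub.range_vanishingIdeal _
  let W : Y.Opens := ⟨Rᶜ, hRc.isOpen_compl⟩
  haveI : EtShriek.JCont W.ι := EtFound.jCont W.ι
  obtain ⟨w, hw⟩ := recollement_shortExact i W.ι (by rw [Scheme.Opens.range_ι, hir]; rfl) G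
  haveI := BCCrit13.pull_additive i
  haveI : (EtCoh.push i).Additive := (EtCoh.pullPushAdj i).right_adjoint_additive
  refine RatCoh13.subsingleton_H_middle hw q ?_ (IH R hRc hRC _
    (GalCd13.nsmul_map (EtCoh.push i) (GalCd13.nsmul_map (EtCoh.pull i) hℓ))
    (mem_of_supp fun Ω _ _ ξ hξ => isZero_stalk_push_closed i _ ξ (hir ▸ hξ)))
  let ψ := (EtShriek.extZeroAdj W.ι).counit.app G
  let A := (EtShriek.extZero W.ι).obj ((EtShriek.restrAlong W.ι).obj G)
  have hin : ∀ (Ω : Type u) [Field Ω] [IsSepClosed Ω] (ξ : Spec (CommRingCat.of Ω) ⟶ Y),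
      ξ.base (default : Spec (CommRingCat.of Ω)) ∈ W → IsIso ((EtCoh.stalk ξ).map ψ) := fun Ω _ _ ξ hξ =>
    isIso_stalk_of_lift W.ι _ ξ (by rw [Scheme.Opens.range_ι]; exact hξ) fun k _ _ z => isIso_counit_stalk W.ι z G
  have hA : ∀ (Ω : Type u) [Field Ω] [IsSepClosed Ω] (ξ : Spec (CommRingCat.of Ω) ⟶ Y),
      ¬ (ξ.base (default : Spec (CommRingCat.of Ω)) ∈ t₁ ∧ ξ.base (default : Spec (CommRingCat.of Ω)) ∈ O) →
      IsZero ((EtCoh.stalk ξ).obj A) := by
    intro Ω _ _ ξ hξ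
    by_cases hW : ξ.base (default : Spec (CommRingCat.of Ω)) ∈ W
    · haveI := hin Ω ξ hW
      refine IsZero.of_iso ?_ (asIso ((EtCoh.stalk ξ).map ψ))
      refine isZero_stalk_of_notMem_supp ξ fun hx => hξ ?_
      have hxC := hs hx
      have hxO : ξ.base (default : Spec (CommRingCat.of Ω)) ∈ O :=
        by_contra fun h => (show _ ∈ Rᶜ from hW) (show _ ∈ C \ O from ⟨hxC, h⟩)
      refine ⟨?_, hxO⟩
      rw [hSZ] at hxC
      obtain ⟨t, ht, hxt⟩ := Set.mem_sUnion.1 hxC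
      by_cases htt : t = t₁
      · exact htt ▸ hxt
      · exact absurd (show ξ.base (default : Spec (CommRingCat.of Ω)) ∈ D from Set.mem_sUnion.2 ⟨t, ⟨ht, htt⟩, hxt⟩) hxO.2
    · exact isZero_stalk_extZero W.ι ξ (by rw [Scheme.Opens.range_ι]; exact hW) _
  haveI : IsIso ((EtCoh.pullPushAdj c).unit.app A) :=
    unit_isIso_of_supp c A fun k _ _ ξ hξ => hA k ξ fun h => hξ (hcr ▸ h.1)
  refine RatCoh13.subsingleton_H_of_iso (asIso ((EtCoh.pullPushAdj c).unit.app A)).symm q
    (subsingleton_H_push_finite c _ q ?_)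
  have hpz : ∀ (Ω : Type u) [Field Ω] [IsSepClosed Ω] (ξ : Spec (CommRingCat.of Ω) ⟶ Cl η),
      ξ.base (default : Spec (CommRingCat.of Ω)) ∉ Set.range V.ι.base →
      IsZero ((EtCoh.stalk ξ).obj ((EtCoh.pull c).obj A)) := fun Ω _ _ ξ hξ => by
    refine IsZero.of_iso ?_ ((sheafFiberPullIso (A := AddCommGrpCat.{u + 1}) c ξ).app A)
    refine hA Ω (ξ ≫ c) fun h => hξ ?_
    rw [Scheme.Opens.range_ι]
    exact h.2
  haveI : IsIso ((EtShriek.extZeroAdj V.ι).counit.app ((EtCoh.pull c).obj A)) :=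
    extZero_iso_of_outside V.ι _ hpz
  refine RatCoh13.subsingleton_H_of_iso (asIso ((EtShriek.extZeroAdj V.ι).counit.app ((EtCoh.pull c).obj A))) q ?_
  haveI : IsIso ((EtCoh.pull V.ι).map ((EtCoh.pull c).map ψ)) := by
    refine (isIso_iff_stalks _).2 fun Ω _ _ z => ?_
    refine (NatIso.isIso_map_iff (sheafFiberPullIso (A := AddCommGrpCat.{u + 1}) V.ι z) _).2 ?_
    refine (NatIso.isIso_map_iff (sheafFiberPullIso (A := AddCommGrpCat.{u + 1}) c (z ≫ V.ι)) ψ).2 ?_
    refine hin Ω _ fun h => h.2 ?_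
    exact (z.base (default : Spec (CommRingCat.of Ω))).2
  let e : (EtShriek.restrAlong V.ι).obj ((EtCoh.pull c).obj A) ≅ (EtCoh.pull V.ι).obj ((EtCoh.pull c).obj G) :=
    (restrPullIso V.ι).app _ ≪≫ asIso ((EtCoh.pull V.ι).map ((EtCoh.pull c).map ψ))
  haveI := BCCrit13.pull_additive V.ι
  exact RatCoh13.subsingleton_H_of_iso ((EtShriek.extZero V.ι).mapIso e).symm q
    (subsingleton_H_extZero_flcU hV (c ≫ g) V.ι _ hFLC
      (GalCd13.nsmul_map (EtCoh.pull V.ι) (GalCd13.nsmul_map (EtCoh.pull c) hℓ)))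

/-- killed sheaves -/
theorem van_uniform [Fact ℓ.Prime] {q : ℕ} (hV : ConstVan X ℓ q) {Y : Scheme.{u}} (g : Y ⟶ X) [IsFinite g]
    (F : EtCoh.Ab Y) (hF : ℓ • 𝟙 F = 0) : Subsingleton (EtCoh.H Y F q) := by
  haveI := isNoetherian_of_isFinite g
  suffices h : ∀ C : Closeds Y, ∀ F : EtCoh.Ab Y, ℓ • 𝟙 F = 0 → EtPBC.supp F ⊆ (C : Set Y) →
      Subsingleton (EtCoh.H Y F q) from h ⊤ F hF (Set.subset_univ _)
  intro C
  induction C using WellFoundedLT.induction with
  | _ C IH =>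
    intro F hF hs
    by_cases hne : (C : Set Y).Nonempty
    swap
    · exact subsingleton_H_of_isZero (isZero_of_supp_subset_empty
        (hs.trans (Set.not_nonempty_iff_eq_empty.1 hne).subset)) q
    obtain ⟨J, i₁, i₂, D, c, hc, ⟨e⟩, hD⟩ := S0145.result Y _ (IsClosed.stableUnderSpecialization C.isClosed) F
      (EtTrace.isTorsion_of_nsmul_id (Fact.out : ℓ.Prime).pos hF) hs
    letI := i₁
    haveI := i₂
    haveI := EtLC12.QcqsAcyclic.preservesColimitsOfShape_HF Y q J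
    let hc' := isColimitOfPreserves (EtCoh.HF Y q) hc
    suffices hstage : ∀ j, Subsingleton (EtCoh.H Y (cokernel (ℓ • 𝟙 (D.obj j))) q) by
      have h0 : IsZero ((EtCoh.HF Y q).obj c.pt) := by
        refine (IsZero.iff_id_eq_zero _).2 (hc'.hom_ext fun j => ?_)
        have hcp : ℓ • 𝟙 c.pt = 0 := by
          have h1 : e.hom ≫ (ℓ • 𝟙 F) ≫ e.inv = ℓ • 𝟙 c.pt := by
            rw [Preadditive.nsmul_comp, Category.id_comp, Preadditive.comp_nsmul, e.hom_inv_id]
          rw [← h1, hF, zero_comp, comp_zero]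
        have hcond : (ℓ • 𝟙 (D.obj j)) ≫ c.ι.app j = 0 := by
          have h2 : c.ι.app j ≫ (ℓ • 𝟙 c.pt) = 0 := by rw [hcp]; exact comp_zero
          rw [Preadditive.nsmul_comp, Category.id_comp]
          rw [Preadditive.comp_nsmul] at h2
          exact (congrArg (ℓ • ·) (Category.comp_id (c.ι.app j)).symm).trans h2
        have hz : (EtCoh.HF Y q).map (cokernel.π (ℓ • 𝟙 (D.obj j))) = 0 :=
          (@AddCommGrpCat.isZero_of_subsingleton
            ((EtCoh.HF Y q).obj (cokernel (ℓ • 𝟙 (D.obj j)))) (hstage j)).eq_of_tgt _ _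
        show (EtCoh.HF Y q).map (c.ι.app j) ≫ _ = (EtCoh.HF Y q).map (c.ι.app j) ≫ _
        rw [← cokernel.π_desc (ℓ • 𝟙 (D.obj j)) (c.ι.app j) hcond, Functor.map_comp, hz, zero_comp, zero_comp,
          zero_comp]
      exact RatCoh13.subsingleton_H_of_iso e q (AddCommGrpCat.subsingleton_of_isZero h0)
    intro j
    obtain ⟨hcons, C', -, hCE, hsD⟩ := hD j
    refine subsingleton_H_step hV g C.isClosed hne (fun R hR hRC F' hF' hs' => IH ⟨R, hR⟩ hRC F' hF' hs')
      (cokernel (ℓ • 𝟙 (D.obj j))) (isConstructible_of_epi hcons (cokernel.π _)) ?_ ?_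
    · rw [← cancel_epi (cokernel.π (ℓ • 𝟙 (D.obj j))), comp_zero, Preadditive.comp_nsmul, Category.comp_id,
        ← Category.id_comp (cokernel.π (ℓ • 𝟙 (D.obj j))), ← Preadditive.nsmul_comp]
      exact cokernel.condition _
    · refine mem_of_supp fun Ω _ _ ξ hξ => ?_
      refine IsZero.of_epi ((EtCoh.stalk ξ).map (cokernel.π (ℓ • 𝟙 (D.obj j)))) ?_
      exact isZero_stalk_of_notMem_supp ξ fun hh => hξ (hCE (hsD hh))

/-- uniform bound for primary torsion sheaves -/
theorem subsingleton_H_primary_uniform [Fact ℓ.Prime] {q : ℕ} (hV : ConstVan X ℓ q)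
    {Y : Scheme.{u}} (g : Y ⟶ X) [IsFinite g] {F : EtCoh.Ab Y} (hF : Dix.IsPrimaryTorsion ℓ F) :
    Subsingleton (EtCoh.H Y F q) := by
  haveI := isNoetherian_of_isFinite g
  have hpow : ∀ (a : ℕ) (F : EtCoh.Ab Y), ℓ ^ a • 𝟙 F = 0 → Subsingleton (EtCoh.H Y F q) := by
    intro a
    induction a with
    | zero =>
      intro F hF
      rw [pow_zero, one_nsmul] at hF
      exact subsingleton_H_of_isZero ((IsZero.iff_id_eq_zero _).2 hF) q
    | succ a iha =>
      intro F hF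
      obtain ⟨w, hw⟩ := imageSeq_left (ℓ • 𝟙 F)
      refine RatCoh13.subsingleton_H_middle hw q (van_uniform hV g _ ?_) (iha _ ?_)
      · show ℓ • 𝟙 (kernel (ℓ • 𝟙 F)) = 0
        rw [← cancel_mono (kernel.ι (ℓ • 𝟙 F)), zero_comp, Preadditive.nsmul_comp, Category.id_comp,
          ← Category.comp_id (kernel.ι (ℓ • 𝟙 F)), ← Preadditive.comp_nsmul]
        exact kernel.condition _
      · show ℓ ^ a • 𝟙 (Abelian.image (ℓ • 𝟙 F)) = 0
        rw [← cancel_epi (Abelian.factorThruImage (ℓ • 𝟙 F)), comp_zero,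
          ← cancel_mono (Abelian.image.ι (ℓ • 𝟙 F)), zero_comp, Preadditive.comp_nsmul, Category.comp_id,
          Preadditive.nsmul_comp, Abelian.image.fac, ← mul_nsmul', ← pow_succ, hF]
  refine subsingleton_of_forall_eq 0 fun z => ?_
  obtain ⟨G, a, f, y, ha, rfl⟩ := GalCd13.exists_bounded_primary (Fact.out : ℓ.Prime) hF q z
  haveI := hpow a (Abelian.image f) (nsmul_id_of_epi (Abelian.factorThruImage f) ha)
  rw [← Abelian.image.fac f, ← Ext.mk₀_comp_mk₀, ← Ext.comp_assoc_of_third_deg_zero,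
    show y.comp (Ext.mk₀ (Abelian.factorThruImage f)) (add_zero q) = 0 from
      Subsingleton.elim (α := EtCoh.H Y (Abelian.image f) q) _ _, Ext.zero_comp]

end Groth.Agent.EtDev
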