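import Groth.Agent.EtDev.GaKernel
import Groth.Agent.EtDev.Uniform
import Groth.Agent.EtLC12.ArtinSchreier
import Groth.Agent.S18415
import Groth.Agent.H23.RedSub
import Groth.Agent.EtFound.PullExt

/-! vanishing of `j_! ℤ/p` in characteristic `p` -/

set_option autoImplicit false
set_option linter.style.haveILetI false
set_option linter.unusedSectionVars false
set_option backward.isDefEq.respectTransparency false
set_option backward.isDefEq.respectTransparency.types false
set_option maxHeartbeats 800000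

universe u

open CategoryTheory CategoryTheory.Limits AlgebraicGeometry Opposite TopologicalSpace W4c5etcohweilstudent

namespace Groth.Agent.EtDev

open Groth.Agent.EtFound EtLC12

variable {Y : Scheme.{u}} (p : ℕ) [Fact p.Prime] (h0 : (p : Γ(Y, ⊤)) = 0) {R : Scheme.{u}} (i : R ⟶ Y)

section Restr

variable {V : Y.Etale}

/-- an open piece of an étale scheme -/
noncomputable def pieceEt (O : V.left.Opens) : Y.Etale :=
  haveI : AlgebraicGeometry.Etale V.hom := V.prop
  Scheme.Etale.mk (O.ι ≫ V.hom)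

/-- its inclusion -/
noncomputable def pieceι (O : V.left.Opens) : pieceEt O ⟶ V :=
  MorphismProperty.Over.homMk O.ι rfl trivial

lemma isUnit_piece (r : Γ(V.left, ⊤)) : IsUnit ((pieceι (V.left.basicOpen r)).left.appTop r) := by
  show IsUnit ((V.left.basicOpen r).ι.appTop r)
  have h := (V.left.toRingedSpace.isUnit_res_basicOpen r).map (V.left.basicOpen r).topIso.inv.hom
  rw [Scheme.Opens.ι_appTop]
  convert h using 1
  simp [Scheme.Opens.topIso]
  erw [← ConcreteCategory.comp_apply, ← Functor.map_comp]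
  rfl

lemma GaPush_nat {V' : Y.Etale} (f : V' ⟶ V) (a : Γ(V.left, ⊤)) :
    (pullback.fst V'.hom i : ((EtCoh.bc i).obj V').left ⟶ V'.left).appTop (f.left.appTop a) =
      ((EtCoh.bc i).map f).left.appTop
        ((pullback.fst V.hom i : ((EtCoh.bc i).obj V).left ⟶ V.left).appTop a) := by
  have h := congrArg Scheme.Hom.appTop (EtCoh.isPullback_bc_map i f).w
  rw [Scheme.Hom.comp_appTop, Scheme.Hom.comp_appTop] at h
  exact (ConcreteCategory.congr_hom h a).symm

lemma eq_zero_of_pow (b r : Γ(V.left, ⊤)) (hb : b ^ p = b) (hr : r = b ^ (p - 1) - 1) {A : Type u} [CommRing A]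
    (f : Γ(V.left, ⊤) →+* A) (hu : IsUnit (f r)) : f b = 0 := by
  refine hu.mul_left_eq_zero.1 ?_
  have hbr : b * r = 0 := by
    rw [hr, mul_sub, mul_one, ← pow_succ', Nat.sub_add_cancel (Fact.out : p.Prime).one_le, hb, sub_self]
  rw [← map_mul, hbr, map_zero]

end Restr

/-- `Z/p → i_* G_a` -/
noncomputable abbrev c0 : EtCoh.const Y (ZMod p) ⟶ (EtCoh.push i).obj (EtCoh.Ga R) :=
  ArtinSchreier.constToGa p h0 ≫ EtLim.GaPush i

lemma as_GaPush : kernel.ι (EtLim.GaPush i) ≫ ArtinSchreier.as p h0 ≫ EtLim.GaPush i = 0 := by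
  refine Sheaf.hom_ext (NatTrans.ext (funext fun V => AddCommGrpCat.hom_ext (AddMonoidHom.ext fun k => ?_)))
  let x : Γ(V.unop.left, ⊤) := (((kernel.ι (EtLim.GaPush i)).hom.app V).hom k).down
  have hx : (pullback.fst V.unop.hom i : ((EtCoh.bc i).obj V.unop).left ⟶ V.unop.left).appTop x = 0 :=
    congrArg ULift.down (congrArg (fun t : GaKer i ⟶ (EtCoh.push i).obj (EtCoh.Ga R) => (t.hom.app V).hom k)
      (kernel.condition (EtLim.GaPush i)))
  refine congrArg ULift.up ?_
  show (pullback.fst V.unop.hom i : ((EtCoh.bc i).obj V.unop).left ⟶ V.unop.left).appTop (x ^ p - x) = 0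
  rw [map_sub, map_pow, hx, zero_pow (Fact.out : p.Prime).ne_zero, sub_self]

/-- Artin-Schreier on the kernel -/
noncomputable def asK : GaKer i ⟶ GaKer i :=
  kernel.lift _ (kernel.ι (EtLim.GaPush i) ≫ ArtinSchreier.as p h0)
    ((Category.assoc _ _ _).trans (as_GaPush p h0 i))

/-- the kernel of `Z/p → i_* G_a` into that of `G_a → i_* G_a` -/
noncomputable def toGaKer : kernel (c0 p h0 i) ⟶ GaKer i :=
  kernel.lift _ (kernel.ι (c0 p h0 i) ≫ ArtinSchreier.constToGa p h0)
    ((Category.assoc _ _ _).trans (kernel.condition (c0 p h0 i)))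

theorem toGaKer_ι : toGaKer p h0 i ≫ kernel.ι (EtLim.GaPush i) = kernel.ι (c0 p h0 i) ≫ ArtinSchreier.constToGa p h0 :=
  kernel.lift_ι _ _ _

theorem asK_ι : asK p h0 i ≫ kernel.ι (EtLim.GaPush i) = kernel.ι (EtLim.GaPush i) ≫ ArtinSchreier.as p h0 :=
  kernel.lift_ι _ _ _

theorem mono_constToGa : Mono (ArtinSchreier.constToGa (X := Y) p h0) := by
  have : ArtinSchreier.constToGa (X := Y) p h0 = ArtinSchreier.constToKer p h0 ≫ kernel.ι _ :=
    (kernel.lift_ι _ _ _).symm
  rw [this]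
  infer_instance

theorem epi_asK [IsClosedImmersion i] : Epi (asK p h0 i) := by
  refine (Sheaf.isLocallySurjective_iff_epi' _ _).1 ⟨fun {U} s => ?_⟩
  rw [mem_topology_iff]
  intro x
  let k : Γ(U.left, ⊤) := (((kernel.ι (EtLim.GaPush i)).hom.app (op U)).hom s).down
  have hk : (pullback.fst U.hom i : ((EtCoh.bc i).obj U).left ⟶ U.left).appTop k = 0 :=
    congrArg ULift.down (congrArg (fun t : GaKer i ⟶ (EtCoh.push i).obj (EtCoh.Ga R) => (t.hom.app (op U)).hom s)
      (kernel.condition (EtLim.GaPush i)))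
  haveI : Epi (ArtinSchreier.as (X := Y) p h0) := Groth.Agent.S18415.result p Fact.out h0
  have hloc : Presheaf.IsLocallySurjective Y.smallEtaleTopology (ArtinSchreier.as (X := Y) p h0).hom :=
    (Sheaf.isLocallySurjective_iff_epi' AddCommGrpCat.{u + 1} (ArtinSchreier.as p h0)).2 inferInstance
  obtain ⟨V, g, v, ⟨t, ht⟩, hv⟩ := (mem_topology_iff _).1 (hloc.imageSieve_mem (U := U) (ULift.up k)) x
  obtain ⟨(a : Γ(V.left, ⊤))⟩ := t
  have hp : (p : Γ(V.left, ⊤)) = 0 := natCast_eq_zero_etale p h0 V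
  have ha : a ^ p - a = g.left.appTop k := congrArg ULift.down ht
  let π : ((EtCoh.bc i).obj V).left ⟶ V.left := pullback.fst V.hom i
  have hpi : (p : Γ(((EtCoh.bc i).obj V).left, ⊤)) = 0 := by rw [← map_natCast π.appTop.hom, hp, map_zero]
  have hb : π.appTop a ^ p = π.appTop a := by
    refine sub_eq_zero.1 ?_
    rw [← map_pow, ← map_sub, ha]
    exact (GaPush_nat i g k).trans ((congrArg _ hk).trans (map_zero _))
  suffices H : ∃ (O : V.left.Opens), v ∈ O ∧ ∃ c : ZMod p,
      (pullback.fst (pieceEt O).hom i : ((EtCoh.bc i).obj (pieceEt O)).left ⟶ (pieceEt O).left).appTop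
        ((pieceι O).left.appTop (a - ArtinSchreier.φ p _ hp c)) = 0 by
    obtain ⟨O, hvO, c, hc⟩ := H
    let a' : Γ((pieceEt O).left, ⊤) := (pieceι O).left.appTop (a - ArtinSchreier.φ p _ hp c)
    obtain ⟨w, hw⟩ := (SiteBase.secExact_iff
      (ShortComplex.mk (kernel.ι (EtLim.GaPush i)) (EtLim.GaPush i) (kernel.condition _)) (pieceEt O)).1
        ((ShortComplex.exact_of_f_is_kernel _ (kernelIsKernel _)).map_of_mono_of_preservesKernel
          (sheafToPresheaf Y.smallEtaleTopology AddCommGrpCat.{u + 1} ⋙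
            (evaluation Y.Etaleᵒᵖ AddCommGrpCat.{u + 1}).obj (op (pieceEt O)))
          inferInstance inferInstance) (ULift.up a') (ULift.down_injective hc)
    refine ⟨pieceEt O, pieceι O ≫ g, ⟨v, hvO⟩, ⟨w, ?_⟩, ?_⟩
    · refine SiteBase.sheaf_app_injective (kernel.ι (EtLim.GaPush i)) _ ?_
      refine Eq.trans ?_ (NatTrans.naturality_apply (kernel.ι (EtLim.GaPush i)).hom (pieceι O ≫ g).op s).symm
      refine (congrArg (fun m : GaKer i ⟶ EtCoh.Ga Y => (m.hom.app (op (pieceEt O))).hom w) (asK_ι p h0 i)).trans ?_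
      show ((ArtinSchreier.as p h0).hom.app _).hom (((kernel.ι (EtLim.GaPush i)).hom.app _).hom w) = _
      rw [show ((kernel.ι (EtLim.GaPush i)).hom.app (op (pieceEt O))).hom w = ULift.up a' from hw]
      refine congrArg ULift.up ?_
      show a' ^ p - a' = (pieceι O ≫ g).left.appTop k
      have h1 : (a - ArtinSchreier.φ p _ hp c) ^ p - (a - ArtinSchreier.φ p _ hp c) = g.left.appTop k := by
        have := map_sub (asHom Γ(V.left, ⊤) p (Fact.out : p.Prime) hp) a (ArtinSchreier.φ p _ hp c)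
        rw [asHom_apply, asHom_apply, asHom_apply, ArtinSchreier.φ_pow, sub_self, sub_zero] at this
        exact this.trans ha
      show (pieceι O).left.appTop (a - ArtinSchreier.φ p _ hp c) ^ p -
        (pieceι O).left.appTop (a - ArtinSchreier.φ p _ hp c) = _
      rw [← map_pow, ← map_sub, h1]
      rfl
    · exact hv
  by_cases hvR : v ∈ Set.range π.base
  · obtain ⟨z, hz⟩ := hvR
    let ev : Γ(((EtCoh.bc i).obj V).left, ⊤) →+* ((EtCoh.bc i).obj V).left.residueField z :=
      (((EtCoh.bc i).obj V).left.evaluation ⊤ z trivial).hom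
    have hpz : (p : ((EtCoh.bc i).obj V).left.residueField z) = 0 := by rw [← map_natCast ev, hpi, map_zero]
    obtain ⟨c, hc⟩ := ArtinSchreier.exists_eq_φ p hpz (ev (π.appTop a)) (by rw [← map_pow, hb])
    let b : Γ(V.left, ⊤) := a - ArtinSchreier.φ p _ hp c
    let r : Γ(V.left, ⊤) := b ^ (p - 1) - 1
    have hb' : π.appTop b ^ p = π.appTop b := by
      have := map_sub (asHom _ p (Fact.out : p.Prime) hpi) (π.appTop a) (π.appTop (ArtinSchreier.φ p _ hp c))
      rw [asHom_apply, asHom_apply, asHom_apply, hb, ← map_pow π.appTop.hom, ArtinSchreier.φ_pow, sub_self,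
        sub_self, sub_zero, ← map_sub] at this
      exact sub_eq_zero.1 this
    have hev : ev (π.appTop r) = -1 := by
      have : ev (π.appTop b) = 0 := by
        rw [map_sub, map_sub, ArtinSchreier.map_φ p π.appTop.hom hp hpi, ArtinSchreier.map_φ p ev hpi hpz, hc,
          sub_self]
      rw [map_sub, map_sub, map_pow, map_pow, this, map_one, map_one,
        zero_pow (Nat.sub_ne_zero_of_lt (Fact.out : p.Prime).one_lt), zero_sub]
    have hmem : z ∈ ((EtCoh.bc i).obj V).left.basicOpen (π.appTop r) :=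
      (Scheme.evaluation_ne_zero_iff_mem_basicOpen (U := ⊤) _ z trivial _).1 (by
        show ev (π.appTop r) ≠ 0
        rw [hev]
        exact neg_ne_zero.2 one_ne_zero)
    rw [← Scheme.preimage_basicOpen_top] at hmem
    refine ⟨V.left.basicOpen r, hz ▸ hmem, c, ?_⟩
    let V' := pieceEt (V.left.basicOpen r)
    let π' : ((EtCoh.bc i).obj V').left ⟶ V'.left := pullback.fst V'.hom i
    let ρ := ((EtCoh.bc i).map (pieceι (V.left.basicOpen r))).left.appTop.hom
    have hnat : ∀ y : Γ(V.left, ⊤), π'.appTop ((pieceι (V.left.basicOpen r)).left.appTop y) = ρ (π.appTop y) :=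
      GaPush_nat i _
    refine (hnat b).trans ?_
    have hu : IsUnit (ρ (π.appTop r)) := hnat r ▸ (isUnit_piece r).map π'.appTop.hom
    refine hu.mul_left_eq_zero.1 ?_
    rw [← map_mul]
    refine (congrArg ρ ?_).trans (map_zero ρ)
    rw [show π.appTop r = π.appTop b ^ (p - 1) - 1 by simp only [r, map_sub, map_pow, map_one], mul_sub, mul_one,
      ← pow_succ', Nat.sub_add_cancel (Fact.out : p.Prime).one_le, hb', sub_self]
  · haveI : IsClosedImmersion π := MorphismProperty.pullback_fst (P := @IsClosedImmersion) _ _ ‹_›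
    let O : V.left.Opens := ⟨(Set.range π.base)ᶜ, π.isClosedEmbedding.isClosed_range.isOpen_compl⟩
    refine ⟨O, hvR, 0, ?_⟩
    haveI : IsEmpty ↥(pullback (pieceEt O).hom i) := ⟨fun y => by
      have h := congrArg (fun m : ((EtCoh.bc i).obj (pieceEt O)).left ⟶ V.left => m.base y)
        (EtCoh.isPullback_bc_map i (pieceι O)).w
      exact ((pullback.fst (pieceEt O).hom i : ((EtCoh.bc i).obj (pieceEt O)).left ⟶ (pieceEt O).left).base y).2
        ⟨((EtCoh.bc i).map (pieceι O)).left.base y, (Scheme.Hom.comp_apply _ _ _).symm.trans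
          (h.trans (Scheme.Hom.comp_apply _ _ _))⟩⟩
    exact Subsingleton.elim _ _

theorem shortExact_asK [IsClosedImmersion i] :
    ∃ w : toGaKer p h0 i ≫ asK p h0 i = 0, (ShortComplex.mk _ _ w).ShortExact := by
  haveI := mono_constToGa (Y := Y) p h0
  haveI : Mono (toGaKer p h0 i) := by
    haveI : Mono (toGaKer p h0 i ≫ kernel.ι (EtLim.GaPush i)) := by rw [toGaKer_ι]; infer_instance
    exact mono_of_mono _ (kernel.ι (EtLim.GaPush i))
  haveI := epi_asK p h0 i
  have w : toGaKer p h0 i ≫ asK p h0 i = 0 := by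
    refine (cancel_mono (kernel.ι (EtLim.GaPush i))).1 ?_
    rw [Category.assoc, asK_ι, ← Category.assoc, toGaKer_ι, Category.assoc, ArtinSchreier.constToGa_as, comp_zero,
      zero_comp]
  refine ⟨w, { exact := ShortComplex.exact_of_f_is_kernel _ (KernelFork.IsLimit.ofι' _ _ fun {A} t ht => ?_) }⟩
  have hC : ArtinSchreier.constToKer (X := Y) p h0 ≫ kernel.ι _ = ArtinSchreier.constToGa p h0 := kernel.lift_ι _ _ _
  let t₁ : A ⟶ kernel (ArtinSchreier.as (X := Y) p h0) := kernel.lift _ (t ≫ kernel.ι (EtLim.GaPush i)) (by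
    rw [Category.assoc, ← asK_ι, ← Category.assoc, ht, zero_comp])
  have ht₂ : (t₁ ≫ inv (ArtinSchreier.constToKer p h0)) ≫ ArtinSchreier.constToGa p h0 =
      t ≫ kernel.ι (EtLim.GaPush i) := by
    rw [← hC, Category.assoc, IsIso.inv_hom_id_assoc]
    exact kernel.lift_ι _ _ _
  refine ⟨kernel.lift _ (t₁ ≫ inv (ArtinSchreier.constToKer p h0)) ?_, ?_⟩
  · rw [c0, ← Category.assoc, ht₂, Category.assoc, kernel.condition, comp_zero]
  · refine (cancel_mono (kernel.ι (EtLim.GaPush i))).1 ?_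
    rw [Category.assoc, toGaKer_ι, ← Category.assoc, kernel.lift_ι, ht₂]

theorem isZero_stalk_kernel_c0 [IsClosedImmersion i] {Ω : Type u} [Field Ω] [IsSepClosed Ω]
    (ξ : Spec (CommRingCat.of Ω) ⟶ Y) (hξ : ξ.base (default : Spec (CommRingCat.of Ω)) ∈ Set.range i.base) :
    IsZero ((EtCoh.stalk ξ).obj (kernel (c0 p h0 i))) := by
  obtain ⟨ξR, hξR⟩ := H23.RedSub.exists_lift_closed ξ i (by
    rintro _ ⟨z, rfl⟩
    rwa [Subsingleton.elim z default])
  refine @AddCommGrpCat.isZero_of_subsingleton _ (subsingleton_of_forall_eq 0 fun q => ?_)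
  obtain ⟨U, u, s, rfl⟩ := (Scheme.pointSmallEtale ξ).toPresheafFiber_jointly_surjective q
  haveI := mono_constToGa (Y := Y) p h0
  let f₀ : kernel (c0 p h0 i) ⟶ EtCoh.Ga Y := kernel.ι (c0 p h0 i) ≫ ArtinSchreier.constToGa p h0
  let x : Γ(U.left, ⊤) := ((f₀.hom.app (op U)).hom s).down
  have hxp : x ^ p = x := sub_eq_zero.1 (congrArg ULift.down
    (congrArg (fun t : kernel (c0 p h0 i) ⟶ EtCoh.Ga Y => (t.hom.app (op U)).hom s)
      (show f₀ ≫ ArtinSchreier.as p h0 = 0 by rw [Category.assoc, ArtinSchreier.constToGa_as, comp_zero])))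
  have hνx : (pullback.fst U.hom i : ((EtCoh.bc i).obj U).left ⟶ U.left).appTop x = 0 := congrArg ULift.down
    (congrArg (fun t : kernel (c0 p h0 i) ⟶ (EtCoh.push i).obj (EtCoh.Ga R) => (t.hom.app (op U)).hom s)
      ((Category.assoc _ _ _).trans (kernel.condition (c0 p h0 i))))
  let ev : Γ(U.left, ⊤) →+* Ω := ((Scheme.ΓSpecIso (CommRingCat.of Ω)).hom.hom).comp
    (u.left : Spec (CommRingCat.of Ω) ⟶ U.left).appTop.hom
  have hevx : ev x = 0 := by
    have hu : (u.left : Spec (CommRingCat.of Ω) ⟶ U.left) ≫ U.hom = ξR ≫ i := (CategoryTheory.Over.w u).trans hξR.symm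
    let l : Spec (CommRingCat.of Ω) ⟶ ((EtCoh.bc i).obj U).left := pullback.lift _ ξR hu
    have hl : l ≫ pullback.fst U.hom i = u.left := pullback.lift_fst _ _ _
    show (Scheme.ΓSpecIso (CommRingCat.of Ω)).hom ((u.left : Spec (CommRingCat.of Ω) ⟶ U.left).appTop x) = 0
    rw [← hl, Scheme.Hom.comp_appTop]
    show (Scheme.ΓSpecIso (CommRingCat.of Ω)).hom (l.appTop
      ((pullback.fst U.hom i : ((EtCoh.bc i).obj U).left ⟶ U.left).appTop x)) = 0
    rw [hνx, map_zero, map_zero]
  let r : Γ(U.left, ⊤) := x ^ (p - 1) - 1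
  have hevr : ev r = -1 := by
    rw [map_sub, map_pow, hevx, map_one, zero_pow (Nat.sub_ne_zero_of_lt (Fact.out : p.Prime).one_lt), zero_sub]
  have hmem : (u.left : Spec (CommRingCat.of Ω) ⟶ U.left).base (default : Spec (CommRingCat.of Ω)) ∈
      U.left.basicOpen r := by
    have hu : IsUnit ((u.left : Spec (CommRingCat.of Ω) ⟶ U.left).appTop r) := by
      refine (MulEquiv.isUnit_map (Scheme.ΓSpecIso (CommRingCat.of Ω)).commRingCatIsoToRingEquiv.toMulEquiv).1 ?_
      show IsUnit (ev r)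
      rw [hevr]
      exact isUnit_one.neg
    have h := (Spec (CommRingCat.of Ω)).basicOpen_of_isUnit hu
    exact ((Scheme.preimage_basicOpen_top (u.left : Spec (CommRingCat.of Ω) ⟶ U.left) r).trans h).ge
      (TopologicalSpace.Opens.mem_top (default : Spec (CommRingCat.of Ω)))
  obtain ⟨v, hv, -⟩ := exists_lift_point (pieceι (U.left.basicOpen r)) u ⟨_, hmem⟩ rfl
  subst hv
  rw [← (Scheme.pointSmallEtale ξ).toPresheafFiber_w_apply (pieceι (U.left.basicOpen r)) v]
  have hz : ((kernel (c0 p h0 i)).obj.map (pieceι (U.left.basicOpen r)).op).hom s = 0 := by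
    refine SiteBase.sheaf_app_injective f₀ _ ?_
    refine ((NatTrans.naturality_apply f₀.hom (pieceι (U.left.basicOpen r)).op s).trans ?_).trans (map_zero _).symm
    exact ULift.down_injective
      (eq_zero_of_pow p x r hxp rfl (pieceι (U.left.basicOpen r)).left.appTop.hom (isUnit_piece r))
  exact (congrArg _ hz).trans (map_zero _)

theorem isIso_stalk_kernel_ι [IsClosedImmersion i] {Ω : Type u} [Field Ω] [IsSepClosed Ω]
    (ξ : Spec (CommRingCat.of Ω) ⟶ Y) (hξ : ξ.base (default : Spec (CommRingCat.of Ω)) ∉ Set.range i.base) :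
    IsIso ((EtCoh.stalk ξ).map (kernel.ι (c0 p h0 i))) := by
  let S := ShortComplex.mk (kernel.ι (c0 p h0 i)) (c0 p h0 i) (kernel.condition _)
  haveI : Mono S.f := inferInstanceAs (Mono (kernel.ι (c0 p h0 i)))
  have hz : (EtCoh.stalk ξ).map (c0 p h0 i) = 0 :=
    (isZero_stalk_push_closed i (EtCoh.Ga R) ξ hξ).eq_of_tgt _ _
  haveI : Epi ((EtCoh.stalk ξ).map (kernel.ι (c0 p h0 i))) :=
    ((ShortComplex.exact_of_f_is_kernel S (kernelIsKernel _)).map_of_mono_of_preservesKernel (EtCoh.stalk ξ)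
      inferInstance inferInstance).epi_f hz
  haveI : Mono ((EtCoh.stalk ξ).map (kernel.ι (c0 p h0 i))) := inferInstance
  exact isIso_of_mono_of_epi _

/-- vanishing of `j_! ℤ/p` above the quasi-coherent dimension plus one -/
theorem constVan_of_hqc {X : Scheme.{u}} [IsNoetherian X] (h0X : (p : Γ(X, ⊤)) = 0) (n : ℕ)
    (h₁ : ∀ M : X.Modules, Coh.IsQCoh M → Subsingleton (Coh.HH X M n))
    (h₂ : ∀ M : X.Modules, Coh.IsQCoh M → Subsingleton (Coh.HH X M (n + 1))) : ConstVan X p (n + 1) := by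
  intro Y g _ T j _ _
  have h0 : (p : Γ(Y, ⊤)) = 0 := by rw [← map_natCast g.appTop.hom, h0X, map_zero]
  let R := Scheme.IdealSheafData.vanishingIdeal (X := Y) ⟨(Set.range j.base)ᶜ, j.isOpenEmbedding.isOpen_range.isClosed_compl⟩
  let i := R.subschemeι
  have hir : Set.range i.base = (Set.range j.base)ᶜ := H23.RedSub.range_vanishingIdeal _
  obtain ⟨w, hw⟩ := shortExact_asK p h0 i
  haveI hL : Subsingleton (EtCoh.H Y (kernel (c0 p h0 i)) (n + 1)) :=
    RatCoh13.subsingleton_H_left hw n (subsingleton_H_GaKer i g (n + 1) h₂) (subsingleton_H_GaKer i g n h₁)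
  haveI : IsIso ((EtShriek.extZeroAdj j).counit.app (kernel (c0 p h0 i))) :=
    extZero_iso_of_outside j _ fun Ω _ _ ξ hξ => isZero_stalk_kernel_c0 p h0 i ξ (hir ▸ hξ)
  haveI : IsIso ((EtCoh.pull j).map (kernel.ι (c0 p h0 i))) := by
    refine (isIso_iff_stalks _).2 fun Ω _ _ z => ?_
    refine (NatIso.isIso_map_iff (sheafFiberPullIso (A := AddCommGrpCat.{u + 1}) j z) _).2 ?_
    refine isIso_stalk_kernel_ι p h0 i _ fun h => ?_
    rw [hir] at h
    exact h ⟨_, (Scheme.Hom.comp_apply _ _ _).symm⟩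
  let e : EtCoh.const T (ZMod p) ≅ (EtShriek.restrAlong j).obj (kernel (c0 p h0 i)) :=
    ((restrPullIso j).app (kernel (c0 p h0 i)) ≪≫ asIso ((EtCoh.pull j).map (kernel.ι (c0 p h0 i))) ≪≫
      EtCore.pullConst j (ZMod p)).symm
  exact RatCoh13.subsingleton_H_of_iso
    ((EtShriek.extZero j).mapIso e ≪≫ asIso ((EtShriek.extZeroAdj j).counit.app _)).symm (n + 1) hL

end Groth.Agent.EtDev
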