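import Groth.Agent.EtLC12.AffineCartan
import Groth.Agent.EtFound.CechPushGen

/-! vanishing of affine Čech cohomology for kernels and direct images -/

set_option autoImplicit false
set_option linter.unusedSectionVars false
set_option linter.style.haveILetI false
set_option linter.unusedSimpArgs false
set_option backward.isDefEq.respectTransparency false
set_option backward.isDefEq.respectTransparency.types false

universe w v u

open CategoryTheory CategoryTheory.Limits AlgebraicGeometry Opposite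

namespace Groth.Agent.EtDev

open Groth.Agent.EtFound CechInjGen CechSurjGen

section Gen

variable {C : Type u} [Category.{v} C] [LocallySmall.{w} C] {U : C} [HasFiniteProducts (Over U)]
  {ι : Type w} {Uf : ι → Over U}
variable {P₁ P₂ P₃ : Cᵒᵖ ⥤ AddCommGrpCat.{w}} (f : P₁ ⟶ P₂) (g : P₂ ⟶ P₃)
  (hinj : ∀ T, Function.Injective (f.app T).hom)
  (hex : ∀ T, ∀ y, (g.app T).hom y = 0 → ∃ x, (f.app T).hom x = y)
  (hfg : ∀ T x, (g.app T).hom ((f.app T).hom x) = 0)

include hinj hex hfg in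
theorem isZero_cechH_sub (p : ℕ) (h2 : IsZero (EtCech.cechH Uf P₂ (p + 1)))
    (hlift : ∀ z : (EtCech.cechComplex Uf P₃).X p, ((EtCech.cechComplex Uf P₃).d p (p + 1)).hom z = 0 →
      ∃ y : (EtCech.cechComplex Uf P₂).X p, ((EtCech.cechComplex Uf P₂).d p (p + 1)).hom y = 0 ∧
        (((cechComplexFunctor Uf).map (Functor.whiskerLeft (Over.forget U).op g)).f p).hom y = z) :
    IsZero (EtCech.cechH Uf P₁ (p + 1)) := by
  let F : EtCech.cechComplex Uf P₁ ⟶ EtCech.cechComplex Uf P₂ :=
    (cechComplexFunctor Uf).map (Functor.whiskerLeft (Over.forget U).op f)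
  let G : EtCech.cechComplex Uf P₂ ⟶ EtCech.cechComplex Uf P₃ :=
    (cechComplexFunctor Uf).map (Functor.whiskerLeft (Over.forget U).op g)
  have hFinj : ∀ n, Function.Injective (F.f n).hom := fun n a b hab => cev_ext Uf P₁ fun i =>
    hinj _ (by
      have h := congrArg (cev Uf P₂ n i) hab
      rwa [cev_map f n i a, cev_map f n i b] at h)
  have hG : ∀ n a, (G.f n).hom a = 0 → ∃ b, (F.f n).hom b = a := by
    intro n a ha
    choose b hb using fun i => hex _ (cev Uf P₂ n i a) (by rw [← cev_map g n i a, ha, map_zero])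
    obtain ⟨b', hb'⟩ := exists_cev Uf P₁ (n := n) b
    exact ⟨b', cev_ext Uf P₂ fun i => by rw [cev_map f n i b', hb' i, hb i]⟩
  have hGF : ∀ n b, (G.f n).hom ((F.f n).hom b) = 0 := fun n b => cev_ext Uf P₃ fun i => by
    rw [cev_map g n i, cev_map f n i b, hfg, map_zero]
  refine (HomologicalComplex.exactAt_iff_isZero_homology _ _).1 ?_
  have E2 := (HomologicalComplex.exactAt_iff_isZero_homology _ _).2 h2
  rw [HomologicalComplex.exactAt_iff' _ p (p + 1) (p + 2) (by simp) (by simp),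
    ShortComplex.ab_exact_iff] at E2
  rw [HomologicalComplex.exactAt_iff' _ p (p + 1) (p + 2) (by simp) (by simp),
    ShortComplex.ab_exact_iff]
  intro (a : (EtCech.cechComplex Uf P₁).X (p + 1))
    (ha : ((EtCech.cechComplex Uf P₁).d (p + 1) (p + 2)).hom a = 0)
  obtain ⟨(w : (EtCech.cechComplex Uf P₂).X p), hw⟩ := E2 ((F.f (p + 1)).hom a) (by
    refine (ConcreteCategory.congr_hom (F.comm (p + 1) (p + 2)) a).trans ?_
    exact (congrArg (F.f (p + 2)).hom ha).trans (map_zero _))
  replace hw : ((EtCech.cechComplex Uf P₂).d p (p + 1)).hom (w : (EtCech.cechComplex Uf P₂).X p) =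
    (F.f (p + 1)).hom a := hw
  obtain ⟨y, hy, hyw⟩ := hlift ((G.f p).hom w) (by
    refine (ConcreteCategory.congr_hom (G.comm p (p + 1)) w).trans ?_
    exact (congrArg (G.f (p + 1)).hom hw).trans (hGF _ a))
  obtain ⟨b, hb⟩ := hG p (w - y) ((map_sub (G.f p).hom w y).trans (sub_eq_zero.2 hyw.symm))
  refine ⟨b, hFinj (p + 1) ?_⟩
  refine (ConcreteCategory.congr_hom (F.comm p (p + 1)) b).symm.trans ?_
  refine (congrArg ((EtCech.cechComplex Uf P₂).d p (p + 1)).hom hb).trans ?_
  refine (map_sub ((EtCech.cechComplex Uf P₂).d p (p + 1)).hom w y).trans ?_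
  rw [hy, sub_zero]
  exact hw

include hfg in
theorem lift_cocycle_succ (p : ℕ) (h3 : IsZero (EtCech.cechH Uf P₃ (p + 1)))
    (hsurj : ∀ (n : ℕ) (i : Fin (n + 1) → ι),
      Function.Surjective (g.app (op (∏ᶜ fun k => Uf (i k)).left)).hom)
    (z : (EtCech.cechComplex Uf P₃).X (p + 1))
    (hz : ((EtCech.cechComplex Uf P₃).d (p + 1) (p + 2)).hom z = 0) :
    ∃ y : (EtCech.cechComplex Uf P₂).X (p + 1), ((EtCech.cechComplex Uf P₂).d (p + 1) (p + 2)).hom y = 0 ∧
      (((cechComplexFunctor Uf).map (Functor.whiskerLeft (Over.forget U).op g)).f (p + 1)).hom y = z := by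
  have E3 := (HomologicalComplex.exactAt_iff_isZero_homology _ _).2 h3
  rw [HomologicalComplex.exactAt_iff' _ p (p + 1) (p + 2) (by simp) (by simp),
    ShortComplex.ab_exact_iff] at E3
  obtain ⟨(v : (EtCech.cechComplex Uf P₃).X p), hv⟩ := E3 z hz
  choose a ha using fun i => hsurj p i (cev Uf P₃ p i v)
  obtain ⟨v', hv'⟩ := exists_cev Uf P₂ (n := p) a
  refine ⟨((EtCech.cechComplex Uf P₂).d p (p + 1)).hom v',
    ConcreteCategory.congr_hom ((EtCech.cechComplex Uf P₂).d_comp_d p (p + 1) (p + 2)) v', ?_⟩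
  refine (ConcreteCategory.congr_hom
    (((cechComplexFunctor Uf).map (Functor.whiskerLeft (Over.forget U).op g)).comm p (p + 1)) v').symm.trans ?_
  refine Eq.trans ?_ hv
  refine congrArg ((EtCech.cechComplex Uf P₃).d p (p + 1)).hom (cev_ext Uf P₃ fun i => ?_)
  exact (cev_map g p i v').trans ((congrArg _ (hv' i)).trans (ha i))

/-- cocycles of degree zero lift -/
theorem lift_cocycle_zero
    (h₃ : Presieve.IsSheafFor (P₃ ⋙ forget AddCommGrpCat.{w})
      (Presieve.ofArrows (fun i => (Uf i).left) fun i => (Uf i).hom))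
    (hsurjU : Function.Surjective (g.app (op U)).hom)
    (z : (EtCech.cechComplex Uf P₃).X 0) (hz : ((EtCech.cechComplex Uf P₃).d 0 1).hom z = 0) :
    ∃ y : (EtCech.cechComplex Uf P₂).X 0, ((EtCech.cechComplex Uf P₂).d 0 1).hom y = 0 ∧
      (((cechComplexFunctor Uf).map (Functor.whiskerLeft (Over.forget U).op g)).f 0).hom y = z := by
  let one : ∀ T : C, Lift Uf T → Tup Uf 0 T := fun T l => ⟨fun _ => l, fun _ => rfl⟩
  have hσ : ∀ (T : C) (p : Tup Uf 1 T), toFn z T (one T (p.1 0)) = toFn z T (one T (p.1 1)) := by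
    intro T p
    have h1 : toFn (((EtCech.cechComplex Uf P₃).d 0 1).hom z) T p = 0 := by
      show (P₃.map p.toProd.op).hom (cev Uf P₃ 1 _ (((EtCech.cechComplex Uf P₃).d 0 1).hom z)) = 0
      rw [hz, map_zero, map_zero]
    rw [toFn_d] at h1
    erw [Fin.sum_univ_two] at h1
    have f0 : p.face 0 = one T (p.1 1) :=
      Subtype.ext (funext fun k => by obtain rfl := Fin.fin_one_eq_zero k; rfl)
    have f1 : p.face 1 = one T (p.1 0) :=
      Subtype.ext (funext fun k => by obtain rfl := Fin.fin_one_eq_zero k; rfl)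
    rw [f0, f1] at h1
    simp only [Fin.val_zero, Fin.val_one, pow_zero, one_zsmul, pow_one, neg_zsmul, one_smul,
      ← sub_eq_add_neg] at h1
    exact (sub_eq_zero.1 h1).symm
  let fam : ∀ i, P₃.obj (op (Uf i).left) := fun i => toFn z _ (one _ (Lift.mk' i (𝟙 _)))
  have hfam : ∀ {i : ι} {T : C} (a : T ⟶ (Uf i).left),
      (P₃.map a.op).hom (fam i) = toFn z T (one T (Lift.mk' i a)) := fun {i T} a => by
    have h1 := toFn_res z a (one (Uf i).left (Lift.mk' i (𝟙 _)))
    refine Eq.trans h1.symm (congrArg (fun q : Tup Uf 0 T => toFn z T q) (Subtype.ext (funext fun k => ?_)))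
    show Lift.mk' i (a ≫ (Lift.mk' i (𝟙 _) : Lift Uf _).hom) = Lift.mk' i a
    rw [Lift.hom_mk', Category.comp_id]
  have hcompat : Presieve.Arrows.Compatible (P₃ ⋙ forget AddCommGrpCat.{w}) (fun i => (Uf i).hom) fam := by
    intro i j T gi gj hw
    show (P₃.map gi.op).hom (fam i) = (P₃.map gj.op).hom (fam j)
    rw [hfam, hfam]
    have hb : (Lift.mk' i gi : Lift Uf T).base = (Lift.mk' j gj : Lift Uf T).base := by
      show (Lift.mk' i gi : Lift Uf T).hom ≫ _ = (Lift.mk' j gj : Lift Uf T).hom ≫ _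
      rw [Lift.hom_mk', Lift.hom_mk']
      exact hw
    exact hσ T ⟨![Lift.mk' i gi, Lift.mk' j gj], fun k => by
      fin_cases k
      · rfl
      · exact hb.symm⟩
  obtain ⟨s, hs, -⟩ := (Presieve.isSheafFor_arrows_iff _ _).1 h₃ fam hcompat
  obtain ⟨r, hr⟩ := hsurjU s
  obtain ⟨y, hy⟩ := exists_cev Uf P₂ (n := 0) fun i => (P₂.map (∏ᶜ fun k => Uf (i k)).hom.op).hom r
  refine ⟨y, cev_ext Uf P₂ fun i => ?_, cev_ext Uf P₃ fun i => ?_⟩
  · rw [cev_d, map_zero]
    erw [Fin.sum_univ_two]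
    simp only [Fin.val_zero, Fin.val_one, pow_zero, one_zsmul, pow_one, neg_zsmul, one_smul, hy,
      ← sub_eq_add_neg]
    refine sub_eq_zero.2 ?_
    refine (ConcreteCategory.congr_hom (P₂.map_comp _ _) r).symm.trans
      (Eq.trans ?_ (ConcreteCategory.congr_hom (P₂.map_comp _ _) r))
    exact congrArg (fun m : (∏ᶜ fun k => Uf (i k)).left ⟶ U => (P₂.map m.op).hom r)
      ((Over.w (tmap Uf i 0)).trans (Over.w (tmap Uf i 1)).symm)
  · rw [cev_map g 0 i y, hy i]
    refine (ConcreteCategory.congr_hom (g.naturality (∏ᶜ fun k => Uf (i k)).hom.op) r).trans ?_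
    refine (congrArg (P₃.map (∏ᶜ fun k => Uf (i k)).hom.op).hom hr).trans ?_
    have h1 : cev Uf P₃ 0 i z = toFn z _ (taut i) := by
      show _ = (P₃.map (taut (Uf := Uf) i).toProd.op).hom _
      rw [toProd_taut]
      exact (ConcreteCategory.congr_hom (P₃.map_id _) _).symm
    have h2 : taut (Uf := Uf) i = one _ (Lift.mk' (i 0) (Pi.π (fun k => Uf (i k)) 0).left) :=
      Subtype.ext (funext fun k => by obtain rfl := Fin.fin_one_eq_zero k; rfl)
    rw [h1, h2, ← hfam]
    refine Eq.trans ?_ (congrArg (P₃.map (Pi.π (fun k => Uf (i k)) 0).left.op).hom (hs (i 0)))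
    refine Eq.trans ?_ (ConcreteCategory.congr_hom (P₃.map_comp _ _) s)
    exact congrArg (fun m : (∏ᶜ fun k => Uf (i k)).left ⟶ U => (P₃.map m.op).hom s)
      (Over.w (Pi.π (fun k => Uf (i k)) 0)).symm

end Gen

open EtLC12.AffineCartan

variable {X : Scheme.{u}}

/-- the criterion passes to kernels -/
theorem isAffAcyclic_X₁ (S : ShortComplex (EtCoh.Ab X)) [Mono S.f] (hS : S.Exact)
    (hsurj : ∀ (V : X.Etale), IsAffine V.left → Function.Surjective (S.g.hom.app (op V)).hom)
    (h2 : IsAffAcyclic S.X₂) (h3 : IsAffAcyclic S.X₃) : IsAffAcyclic S.X₁ := by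
  intro U _ Y hU hY hs p
  haveI : LocallySmall.{u + 1} X.Etale := ⟨fun _ _ => inferInstance⟩
  have hinj : ∀ T, Function.Injective (S.f.hom.app T).hom := fun T => SiteBase.sheaf_app_injective S.f T.unop
  have hex : ∀ T, ∀ y, (S.g.hom.app T).hom y = 0 → ∃ x, (S.f.hom.app T).hom x = y := fun T y hy =>
    (SiteBase.secExact_iff S T.unop).1 (hS.map_of_mono_of_preservesKernel
      (sheafToPresheaf X.smallEtaleTopology AddCommGrpCat.{u + 1} ⋙
        (evaluation X.Etaleᵒᵖ AddCommGrpCat.{u + 1}).obj T) inferInstance inferInstance) y hy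
  have hfg : ∀ T x, (S.g.hom.app T).hom ((S.f.hom.app T).hom x) = 0 := fun T x =>
    congrArg (fun t : S.X₁ ⟶ S.X₃ => (t.hom.app T).hom x) S.zero
  refine isZero_cechH_sub S.f.hom S.g.hom hinj hex hfg p (h2 U Y hU hY hs p) fun z hz => ?_
  cases p with
  | zero =>
    refine lift_cocycle_zero S.g.hom (isSheafFor_of_covers S.X₃ _ _ fun x => ?_) (hsurj U hU) z hz
    obtain ⟨y, hy⟩ := hs.1 x
    exact ⟨⟨⟩, y, hy⟩
  | succ p =>
    refine lift_cocycle_succ (P₁ := S.X₁.obj) S.f.hom S.g.hom hfg p (h3 U Y hU hY hs p) (fun n i => ?_) z hz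
    haveI := isAffine_prod (U := U) n (fun _ => Y) fun _ => hY
    exact hsurj _ inferInstance

/-- the criterion passes to direct images along affine morphisms -/
theorem isAffAcyclic_push {R Y : Scheme.{u}} (i : R ⟶ Y) [IsAffineHom i] (G : EtCoh.Ab R)
    (hG : IsAffAcyclic G) : IsAffAcyclic ((EtCoh.push i).obj G) := by
  intro U _ W hU hW hs p
  haveI : LocallySmall.{u + 1} Y.Etale := ⟨fun _ _ => inferInstance⟩
  haveI : LocallySmall.{u + 1} R.Etale := ⟨fun _ _ => inferInstance⟩
  haveI : HasFiniteProducts (Over ((EtCoh.bc i).obj U)) := hasFiniteProducts_of_has_binary_and_terminal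
  have haff : ∀ V : Y.Etale, IsAffine V.left → IsAffine ((EtCoh.bc i).obj V).left := fun V hV =>
    haveI := hV
    haveI : IsAffineHom (pullback.fst V.hom i) := MorphismProperty.pullback_fst _ _ ‹IsAffineHom i›
    @isAffine_of_isAffineHom _ _ (pullback.fst V.hom i : ((EtCoh.bc i).obj V).left ⟶ V.left) this hV
  have sq := EtCoh.isPullback_bc_map i W.hom
  have hs' : Surjective ((EtCoh.bc i).map W.hom).left :=
    haveI := hs
    MorphismProperty.of_isPullback sq.flip hs
  refine IsZero.of_iso (hG ((EtCoh.bc i).obj U) ((Over.post (EtCoh.bc i)).obj W) (haff U hU) (haff W.left hW) hs' p) ?_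
  exact ((HomologicalComplex.homologyFunctor _ _ (p + 1)).mapIso
    (CechPushGen.complexIso (EtCoh.bc i) (fun _ => W) G.obj)).symm

end Groth.Agent.EtDev
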