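import Groth.Agent.EtDev.Reduce
import Groth.Agent.EtFound.AbRecollement
import Groth.Agent.EtFound.PullExt
import Groth.Agent.EtFound.ExtZeroExact

/-! dévissage: constant sheaves -/

set_option autoImplicit false
set_option linter.style.haveILetI false
set_option linter.unusedSectionVars false
set_option backward.isDefEq.respectTransparency false
set_option backward.isDefEq.respectTransparency.types false
set_option maxHeartbeats 800000

universe u

open CategoryTheory CategoryTheory.Limits AlgebraicGeometry Opposite CategoryTheory.Abelian TopologicalSpace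

namespace Groth.Agent.EtDev

open Groth.Agent.EtFound Groth.Agent.CdFin

variable {X : Scheme.{u}} {ℓ : ℕ} {φ : ∀ Y : Scheme.{u}, (Y ⟶ X) → ℕ} [IsNoetherian X]
  {Y : Scheme.{u}} (g : Y ⟶ X) [IsFinite g] {d : ℕ}

/-- vanishing of constant sheaves -/
theorem subsingleton_H_const (h : Hyp ℓ φ) (ih : Van ℓ φ d) (hle : ∀ y : Y, ptPhi φ g y ≤ d) (q : ℕ)
    (hq : d + 1 ≤ q) : Subsingleton (EtCoh.H Y (EtCoh.const Y (ZMod ℓ)) q) := by
  refine subsingleton_H_of_closures g h ih _ (GalCd13.nsmul_const_zmod Y ℓ) isClosed_univ (fun y _ => hle y)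
    (Set.subset_univ _) q hq fun η _ hη => ?_
  exact RatCoh13.subsingleton_H_of_iso (EtCore.pullConst (clι η) (ZMod ℓ)).symm q
    (h.vanish (Cl η) (clι η ≫ g) q (show ptPhi φ g η < q by omega))

theorem nsmul_extZero {U : Scheme.{u}} (j : U ⟶ Y) [AlgebraicGeometry.Etale j] [EtShriek.JCont j]
    {L : EtCoh.Ab U} {n : ℕ} (hL : n • 𝟙 L = 0) : n • 𝟙 ((EtShriek.extZero j).obj L) = 0 := by
  haveI : (EtShriek.restrAlong j).Additive := { }
  haveI : (EtShriek.extZero j).Additive := (EtShriek.extZeroAdj j).left_adjoint_additive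
  exact GalCd13.nsmul_map (EtShriek.extZero j) hL

/-- extensions by zero of constant sheaves from opens containing the top points -/
theorem subsingleton_H_extZero_const (h : Hyp ℓ φ) (ih : Van ℓ φ d) (hle : ∀ y : Y, ptPhi φ g y ≤ d)
    {T : Scheme.{u}} (j : T ⟶ Y) [IsOpenImmersion j] [EtShriek.JCont j]
    (hout : ∀ y : Y, y ∉ Set.range j.base → ptPhi φ g y < d) (q : ℕ) (hq : d + 1 ≤ q) :
    Subsingleton (EtCoh.H Y ((EtShriek.extZero j).obj (EtCoh.const T (ZMod ℓ))) q) := by
  let C := EtCoh.const Y (ZMod ℓ)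
  let e : (EtShriek.restrAlong j).obj C ≅ EtCoh.const T (ZMod ℓ) :=
    (restrPullIso j).app C ≪≫ EtCore.pullConst j (ZMod ℓ)
  refine RatCoh13.subsingleton_H_of_iso ((EtShriek.extZero j).mapIso e) q ?_
  have hR : ℓ • 𝟙 ((EtShriek.restrAlong j).obj C) = 0 := by
    haveI : Mono e.hom := inferInstance
    exact nsmul_id_of_mono e.hom (GalCd13.nsmul_const_zmod T ℓ)
  refine subsingleton_H_source g ih ((EtShriek.extZeroAdj j).counit.app C) (nsmul_extZero j hR)
    (GalCd13.nsmul_const_zmod Y ℓ) (fun Ω _ _ ξ hξ => ?_) q hq (subsingleton_H_const g h ih hle q hq)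
  refine isIso_stalk_of_lift j _ ξ ?_ fun k _ _ z => isIso_counit_stalk j z C
  by_contra hn
  exact absurd (hout _ hn) (not_lt.2 hξ)

end Groth.Agent.EtDev
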