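import Groth.Agent.EtDev.Const
import Groth.Agent.TraceFin.Etale
import Groth.Agent.S0653
import Groth.Agent.S0657
import Groth.Agent.S0385
import Groth.Agent.EtFound.JContGen

/-! dévissage: locally constant sheaves on an open of an integral scheme -/

set_option autoImplicit false
set_option linter.style.haveILetI false
set_option linter.unusedSectionVars false
set_option backward.isDefEq.respectTransparency false
set_option backward.isDefEq.respectTransparency.types false
set_option maxHeartbeats 1600000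

universe u

open CategoryTheory CategoryTheory.Limits AlgebraicGeometry Opposite CategoryTheory.Abelian TopologicalSpace

namespace Groth.Agent.EtDev

open Groth.Agent.EtFound Groth.Agent.CdFin

variable {X : Scheme.{u}} {ℓ : ℕ} {φ : ∀ Y : Scheme.{u}, (Y ⟶ X) → ℕ} [IsNoetherian X]

theorem subsingleton_H_of_retract {Y : Scheme.{u}} {A B : EtCoh.Ab Y} (i : A ⟶ B) (r : B ⟶ A) (hir : i ≫ r = 𝟙 A)
    (q : ℕ) (h : Subsingleton (EtCoh.H Y B q)) : Subsingleton (EtCoh.H Y A q) := by
  refine subsingleton_of_forall_eq 0 fun x => ?_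
  have e : x = (x.comp (Ext.mk₀ i) (add_zero q)).comp (Ext.mk₀ r) (add_zero q) := by
    rw [Ext.comp_assoc_of_third_deg_zero, Ext.mk₀_comp_mk₀, hir, Ext.comp_mk₀_id]
  rw [e, @Subsingleton.elim _ h (x.comp (Ext.mk₀ i) (add_zero q)) 0, Ext.zero_comp]

/-- a finite modification of a cover of a dense open -/
theorem exists_finite_extension {Z : Scheme.{u}} [IsNoetherian Z] {U : Scheme.{u}} (j : U ⟶ Z) [IsOpenImmersion j]
    {T : Scheme.{u}} (f : T ⟶ U) [IsFinite f] :
    ∃ (Z' : Scheme.{u}) (ν : Z' ⟶ Z) (_ : IsFinite ν) (j' : T ⟶ Z') (_ : IsOpenImmersion j'),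
      IsPullback j' f ν j ∧ ∀ y : Z', y ∉ Set.range j'.base → ν.base y ∉ Set.range j.base := by
  haveI : IsLocallyNoetherian U := LocallyOfFiniteType.isLocallyNoetherian j
  haveI : QuasiCompact j := inferInstance
  haveI : LocallyQuasiFinite (f ≫ j) := inferInstance
  obtain ⟨T₀, j₀, π, hj₀, hqc, hπ, hfac⟩ := S0385.result (f ≫ j)
  let ν : j₀.image ⟶ Z := j₀.imageι ≫ π
  let j' : T ⟶ j₀.image := j₀.toImage
  have hw : j' ≫ ν = f ≫ j := by
    rw [← hfac, ← Category.assoc, Scheme.Hom.toImage_imageι]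
  let O : j₀.image.Opens := ν ⁻¹ᵁ j.opensRange
  have hO : Set.range j'.base ⊆ Set.range O.ι.base := by
    rw [Scheme.Opens.range_ι]
    rintro _ ⟨t, rfl⟩
    exact ⟨f.base t, by rw [← Scheme.Hom.comp_apply, ← hw, Scheme.Hom.comp_apply]⟩
  let l : T ⟶ O.toScheme := IsOpenImmersion.lift O.ι j' hO
  have hl : l ≫ O.ι = j' := IsOpenImmersion.lift_fac _ _ _
  let k : O.toScheme ⟶ U := IsOpenImmersion.lift j (O.ι ≫ ν) (by
    rintro _ ⟨o, rfl⟩
    rw [Scheme.Hom.comp_apply]
    exact o.2)
  have hk : k ≫ j = O.ι ≫ ν := IsOpenImmersion.lift_fac _ _ _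
  have hlk : l ≫ k = f := by
    rw [← cancel_mono j, Category.assoc, hk, ← Category.assoc, hl, hw]
  haveI : IsFinite ν := inferInstance
  haveI : IsSeparated (k ≫ j) := by rw [hk]; infer_instance
  haveI : IsSeparated k := IsSeparated.of_comp k j
  haveI : IsFinite (l ≫ k) := by rw [hlk]; infer_instance
  haveI : IsFinite l := IsFinite.of_comp l k
  have hrange : Set.range j'.base = (O : Set j₀.image) := by
    refine subset_antisymm ((Scheme.Opens.range_ι O) ▸ hO) fun y hy => ?_
    have hcl : IsClosed (Set.range l.base) := l.isClosedMap.isClosed_range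
    have hd : DenseRange l.base := by
      refine dense_iff_inter_open.2 fun V hV hne => ?_
      obtain ⟨v, hv⟩ := hne
      obtain ⟨t, ht⟩ := (Scheme.Hom.denseRange j').exists_mem_open (O.ι.isOpenEmbedding.isOpenMap V hV) ⟨_, v, hv, rfl⟩
      obtain ⟨w, hwV, hw'⟩ := ht
      refine ⟨w, hwV, t, O.ι.isEmbedding.injective ?_⟩
      rw [← Scheme.Hom.comp_apply, hl]
      exact hw'.symm
    obtain ⟨t, ht⟩ : (⟨y, hy⟩ : O.toScheme) ∈ Set.range l.base := by
      rw [← hcl.closure_eq, hd.closure_eq]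
      trivial
    refine ⟨t, ?_⟩
    rw [← hl, Scheme.Hom.comp_apply, ht]
    rfl
  refine ⟨j₀.image, ν, inferInstance, j', inferInstance, ?_, fun y hy hy' => hy ?_⟩
  · exact (IsOpenImmersion.isPullback f j' j ν hw (TopologicalSpace.Opens.ext hrange).symm).flip
  · rw [hrange]
    exact hy'

/-- extensions by zero of locally constant sheaves from opens of integral schemes -/
theorem subsingleton_H_extZero_flc (h : Hyp ℓ φ) [Fact ℓ.Prime] {d : ℕ} (ih : Van ℓ φ d) {Z : Scheme.{u}}
    (g : Z ⟶ X) [IsIntegral Z] [IsFinite g] (hd : φ Z g ≤ d) {U : Scheme.{u}} (j : U ⟶ Z) [IsOpenImmersion j]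
    [Nonempty U] [EtShriek.JCont j] (L : EtCoh.Ab U) (hL : EtCoh.IsFiniteLocallyConstant L) (hℓ : ℓ • 𝟙 L = 0)
    (q : ℕ) (hq : d + 1 ≤ q) : Subsingleton (EtCoh.H Z ((EtShriek.extZero j).obj L) q) := by
  haveI := isNoetherian_of_isFinite g
  haveI : IsIntegral U := isIntegral_of_isOpenImmersion j
  haveI : ConnectedSpace ↥U := inferInstance
  obtain ⟨T, f, hf, hfe, n, hn, hcard, m, G, c, hG0, ⟨eG⟩, hG⟩ := S0657.result U ℓ L hL ((killedBy_iff_nsmul _ _).2 hℓ)
  obtain ⟨k, hk⟩ : ∃ k : ℕ, k * n % ℓ = 1 % ℓ := by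
    obtain ⟨k, hk⟩ := Nat.exists_mul_mod_eq_one_of_coprime hn.symm (Fact.out : ℓ.Prime).one_lt
    exact ⟨k, by rw [mul_comm, hk.2, Nat.mod_eq_of_lt (Fact.out : ℓ.Prime).one_lt]⟩
  have hmul : ∀ a : ℕ, a • 𝟙 L = (a % ℓ) • 𝟙 L := fun a => by
    conv_lhs => rw [← Nat.mod_add_div a ℓ]
    rw [add_nsmul, mul_comm, mul_nsmul', hℓ, nsmul_zero, add_zero]
  have hret : (EtCoh.pullPushAdj f).unit.app L ≫ (k • (TraceFin.Tr f).app L) = 𝟙 L := by
    rw [Preadditive.comp_nsmul, TraceFin.unit_Tr f n (TraceFin.finrank_eq_of_natCard f hcard) L]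
    refine (mul_nsmul' (𝟙 L) k n).symm.trans ?_
    rw [hmul, hk, ← hmul, one_nsmul]
  refine subsingleton_H_of_retract ((EtShriek.extZero j).map ((EtCoh.pullPushAdj f).unit.app L))
    ((EtShriek.extZero j).map (k • (TraceFin.Tr f).app L))
    ((((EtShriek.extZero j).map_comp _ _).symm.trans (congrArg (EtShriek.extZero j).map hret)).trans
      ((EtShriek.extZero j).map_id L)) q ?_
  obtain ⟨Z', ν, hν, j', hj', hpb, hout⟩ := exists_finite_extension j f
  haveI : EtShriek.JCont j' := EtFound.jCont j'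
  obtain ⟨e⟩ := S0653.result ν j j' f hpb ((EtCoh.pull f).obj L)
  refine RatCoh13.subsingleton_H_of_iso e q (subsingleton_H_push_finite ν _ q ?_)
  have hle : ∀ y : Z', ptPhi φ (ν ≫ g) y ≤ d := fun y =>
    ((h.ptPhi_map g ν y).trans (h.ptPhi_le g _)).trans hd
  have hlt : ∀ y : Z', y ∉ Set.range j'.base → ptPhi φ (ν ≫ g) y < d := fun y hy => by
    have hgen : ν.base y ≠ genericPoint Z := fun he => hout y hy (by
      rw [he]
      obtain ⟨u₀⟩ := ‹Nonempty U›
      exact (genericPoint_specializes (j.base u₀)).mem_open j.isOpenEmbedding.isOpen_range ⟨u₀, rfl⟩)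
    have := h.ptPhi_lt_of_isIntegral g hgen
    have := h.ptPhi_map g ν y
    omega
  haveI := EtFound.extZero_preservesFiniteLimits j'
  haveI : (EtShriek.extZero j').IsLeftAdjoint := (EtShriek.extZeroAdj j').isLeftAdjoint
  haveI : PreservesFiniteColimits (EtShriek.extZero j') := by
    haveI : PreservesColimitsOfSize.{0, 0} (EtShriek.extZero j') :=
      (EtShriek.extZeroAdj j').leftAdjoint_preservesColimits
    exact PreservesColimitsOfSize.preservesFiniteColimits _
  haveI : (EtShriek.extZero j').Additive := Functor.additive_of_preserves_binary_products _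
  have hall : ∀ i, i ≤ m → Subsingleton (EtCoh.H Z' ((EtShriek.extZero j').obj (G i)) q) := by
    intro i
    induction i with
    | zero => exact fun _ => subsingleton_H_of_isZero ((EtShriek.extZero j').map_isZero hG0) q
    | succ i ihi =>
      intro hi
      obtain ⟨hm, ⟨ec⟩⟩ := hG i hi
      let S := ShortComplex.mk (c i) (cokernel.π (c i)) (cokernel.condition _)
      have hS : S.ShortExact :=
        { exact := ShortComplex.exact_of_g_is_cokernel _ (cokernelIsCokernel _) }
      exact RatCoh13.subsingleton_H_middle (hS.map_of_exact (EtShriek.extZero j')) q (ihi (by omega))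
        (RatCoh13.subsingleton_H_of_iso ((EtShriek.extZero j').mapIso ec).symm q
          (subsingleton_H_extZero_const (ν ≫ g) h ih hle j' hlt q hq))
  exact RatCoh13.subsingleton_H_of_iso ((EtShriek.extZero j').mapIso eG) q (hall m le_rfl)

/-- constructible sheaves on integral schemes of value at most `d` -/
theorem subsingleton_H_integral (h : Hyp ℓ φ) [Fact ℓ.Prime] {d : ℕ} (ih : Van ℓ φ d) (Z : Scheme.{u})
    (g : Z ⟶ X) [IsIntegral Z] [IsFinite g] (hd : φ Z g ≤ d) (W : EtCoh.Ab Z) (hW : EtPBC.IsConstructible W)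
    (hℓ : ℓ • 𝟙 W = 0) (q : ℕ) (hq : d + 1 ≤ q) : Subsingleton (EtCoh.H Z W q) := by
  obtain ⟨V, hV, T, t, ht, hr, hT⟩ := exists_generic_piece hW (genericPoint Z)
  have hrV : Set.range t.base = (V : Set Z) := by
    rw [hr, show closure {genericPoint Z} = Set.univ from genericPoint_spec Z]
    exact Set.inter_univ _
  obtain ⟨s, hs⟩ := H23.RedSub.exists_lift V.ι t (by rw [Scheme.Opens.range_ι, hrV])
  have hFLC : EtCoh.IsFiniteLocallyConstant ((EtCoh.pull V.ι).obj W) := by
    refine isFiniteLocallyConstant_of_iso ?_ (isFiniteLocallyConstant_pull s hT)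
    exact ((pullCompAb s t).app W).symm ≪≫ eqToIso (congrArg (fun k => (EtCoh.pull k).obj W) hs)
  haveI : Nonempty ↥V.toScheme := ⟨⟨_, hV⟩⟩
  haveI : EtShriek.JCont V.ι := EtFound.jCont V.ι
  let e : (EtShriek.restrAlong V.ι).obj W ≅ (EtCoh.pull V.ι).obj W := (restrPullIso V.ι).app W
  haveI := BCCrit13.pull_additive V.ι
  have hk : ℓ • 𝟙 ((EtShriek.restrAlong V.ι).obj W) = 0 :=
    nsmul_id_of_mono e.hom (GalCd13.nsmul_map (EtCoh.pull V.ι) hℓ)
  refine subsingleton_H_target g ih ((EtShriek.extZeroAdj V.ι).counit.app W) (nsmul_extZero V.ι hk) hℓ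
    (fun Ω _ _ ξ hξ => ?_) q (by omega)
    (subsingleton_H_extZero_flc h ih g hd V.ι _ (isFiniteLocallyConstant_of_iso e.symm hFLC) hk q hq)
  refine isIso_stalk_of_lift V.ι _ ξ ?_ fun k _ _ z => isIso_counit_stalk V.ι z W
  rw [Scheme.Opens.range_ι]
  by_cases he : ξ.base (default : Spec (CommRingCat.of Ω)) = genericPoint Z
  · rw [he]; exact hV
  · have := h.ptPhi_lt_of_isIntegral g he
    omega

end Groth.Agent.EtDev
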