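import Groth.Agent.EtDev.AffAcyclicKer
import Groth.Agent.EtLC12.GaZar
import Groth.Agent.QCoh.DevissageSum
import Groth.Agent.QCoh.AffineCohom
import Groth.Agent.QCoh.VanIdeal
import Groth.Agent.QCoh.Qcqs
import Groth.Prelude.Def_EtLim

/-! the kernel of `G_a → i_* G_a` for a closed immersion -/

set_option autoImplicit false
set_option linter.style.haveILetI false
set_option linter.unusedSectionVars false
set_option backward.isDefEq.respectTransparency false
set_option backward.isDefEq.respectTransparency.types false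

universe u

open CategoryTheory CategoryTheory.Limits AlgebraicGeometry Opposite TopologicalSpace

namespace Groth.Agent.EtDev

open Groth.Agent.EtFound EtLC12 EtLC12.AffineCartan

variable {R Y : Scheme.{u}} (i : R ⟶ Y) [IsClosedImmersion i]

theorem GaPush_surjective (V : Y.Etale) (hV : IsAffine V.left) :
    Function.Surjective ((EtLim.GaPush i).hom.app (op V)).hom := by
  haveI : IsAffine ((𝟭 Scheme.{u}).obj V.left) := hV
  intro x
  haveI : IsClosedImmersion (pullback.fst V.hom i : ((EtCoh.bc i).obj V).left ⟶ V.left) :=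
    MorphismProperty.pullback_fst (P := @IsClosedImmersion) _ _ ‹_›
  obtain ⟨y, hy⟩ := (IsClosedImmersion.isAffine_surjective_of_isAffine
    (pullback.fst V.hom i : ((EtCoh.bc i).obj V).left ⟶ V.left)).2 x.down
  exact ⟨ULift.up y, ULift.down_injective hy⟩

/-- the kernel of `G_a → i_* G_a` -/
noncomputable abbrev GaKer : EtCoh.Ab Y := kernel (EtLim.GaPush i)

theorem isAffAcyclic_GaKer : IsAffAcyclic (GaKer i) :=
  haveI : Mono (ShortComplex.mk (kernel.ι (EtLim.GaPush i)) (EtLim.GaPush i) (kernel.condition _)).f :=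
    inferInstanceAs (Mono (kernel.ι (EtLim.GaPush i)))
  isAffAcyclic_X₁ (ShortComplex.mk (kernel.ι (EtLim.GaPush i)) (EtLim.GaPush i) (kernel.condition _))
    (ShortComplex.exact_of_f_is_kernel _ (kernelIsKernel _)) (GaPush_surjective i)
    (GaAmitsur.isAffAcyclic_Ga Y) (isAffAcyclic_push i _ (GaAmitsur.isAffAcyclic_Ga R))

/-- the restriction map of the structure sheaves -/
noncomputable abbrev ηO : Coh.structureModule Y ⟶ (Coh.push i).obj (Coh.structureModule R) :=
  SheafOfModules.unitToPushforwardObjUnit i.toRingCatSheafHom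

theorem ηO_app (U : Y.Opens) (a : Γ(Coh.structureModule Y, U)) : (ηO i).app U a = i.app U a := rfl

omit [IsClosedImmersion i] in
theorem fst_appTop_eq_zero_iff (O : Y.Opens) (x : Γ(O.toScheme, ⊤)) :
    (pullback.fst O.ι i).appTop x = 0 ↔ i.app O (O.topIso.hom x) = 0 := by
  have e : pullback.fst O.ι i =
      (pullbackSymmetry O.ι i).hom ≫ (pullbackRestrictIsoRestrict i O).hom ≫ i ∣_ O := by
    rw [pullbackRestrictIsoRestrict_hom_morphismRestrict, pullbackSymmetry_hom_comp_snd]
  have hinj : ∀ {A B : Scheme.{u}} (φ : A ⟶ B) [IsIso φ] (z : Γ(B, ⊤)), φ.appTop z = 0 ↔ z = 0 :=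
    fun φ _ z => ⟨fun h => (ConcreteCategory.bijective_of_isIso φ.appTop).1 (h.trans (map_zero _).symm),
      fun h => by rw [h, map_zero]⟩
  rw [e, Scheme.Hom.comp_appTop, Scheme.Hom.comp_appTop]
  show (pullbackSymmetry O.ι i).hom.appTop ((pullbackRestrictIsoRestrict i O).hom.appTop
    ((i ∣_ O).appTop x)) = 0 ↔ _
  rw [hinj, hinj, morphismRestrict_appTop]
  show (R.presheaf.map _) (i.app _ x) = 0 ↔ _
  rw [← map_zero (R.presheaf.map (eqToHom (image_morphismRestrict_preimage i O ⊤)).op).hom]
  refine (ConcreteCategory.bijective_of_isIso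
    (R.presheaf.map (eqToHom (image_morphismRestrict_preimage i O ⊤)).op)).1.eq_iff.trans ?_
  have hn : i.app O (O.topIso.hom x) =
      R.presheaf.map ((TopologicalSpace.Opens.map i.base).map (eqToHom O.ι_image_top.symm)).op (i.app (O.ι ''ᵁ ⊤) x) :=
    ConcreteCategory.congr_hom (i.naturality (eqToHom O.ι_image_top.symm).op) x
  rw [hn]
  constructor
  · intro h
    exact (congrArg _ h).trans (map_zero _)
  · intro h
    exact (ConcreteCategory.bijective_of_isIso _).1 (h.trans (map_zero _).symm)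

theorem nonempty_resZar_iso [EtZar.ZarCont Y] :
    Nonempty ((EtZar.resZar Y).obj (GaKer i) ≅ (ZarLift.lift Y).obj (Coh.toAb (kernel (ηO i)))) := by
  let K := GaKer i
  let M := kernel (ηO i)
  let α : (ZarLift.lift Y).obj (Coh.toAb M) ⟶ (ZarLift.lift Y).obj (Coh.toAb (Coh.structureModule Y)) :=
    (ZarLift.lift Y).map ((SheafOfModules.toSheaf Y.ringCatSheaf).map (kernel.ι (ηO i)))
  let β : (EtZar.resZar Y).obj K ⟶ (ZarLift.lift Y).obj (Coh.toAb (Coh.structureModule Y)) :=
    (EtZar.resZar Y).map (kernel.ι (EtLim.GaPush i)) ≫ (GaZar.resGaIso Y).hom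
  have hα : ∀ (O : Y.Opens) (m : ULift.{u + 1} Γ(M, O)), (α.hom.app (op O)).hom m =
      ULift.up ((kernel.ι (ηO i)).app O m.down) := fun _ _ => rfl
  have hβ : ∀ (O : Y.Opens) (k : K.obj.obj (op ((EtZar.zarToEt Y).obj O))), (β.hom.app (op O)).hom k =
      ULift.up (O.topIso.hom (((kernel.ι (EtLim.GaPush i)).hom.app (op ((EtZar.zarToEt Y).obj O))).hom k).down) :=
    fun _ _ => rfl
  have hαi : ∀ O : Y.Opens, Function.Injective (α.hom.app (op O)).hom := fun O a b h => by
    rw [hα, hα] at h
    exact ULift.down_injective (QCoh.app_injective (kernel.ι (ηO i)) O (congrArg ULift.down h))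
  have hβi : ∀ O : Y.Opens, Function.Injective (β.hom.app (op O)).hom := fun O a b h => by
    rw [hβ, hβ] at h
    exact SiteBase.sheaf_app_injective (kernel.ι (EtLim.GaPush i)) _ (ULift.down_injective
      ((ConcreteCategory.bijective_of_isIso O.topIso.hom).1 (congrArg ULift.down h)))
  have hνι : ∀ (V : Y.Etale) (k : K.obj.obj (op V)), ((EtLim.GaPush i).hom.app (op V)).hom
      (((kernel.ι (EtLim.GaPush i)).hom.app (op V)).hom k) = 0 := fun V k =>
    congrArg (fun t : GaKer i ⟶ (EtCoh.push i).obj (EtCoh.Ga R) => (t.hom.app (op V)).hom k)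
      (kernel.condition (EtLim.GaPush i))
  have hηι : ∀ (O : Y.Opens) (m : Γ(M, O)), (ηO i).app O ((kernel.ι (ηO i)).app O m) = 0 := fun O m =>
    (congr(($(kernel.condition (ηO i))).app O m) : _)
  have hr : ∀ O : Y.Opens, Set.range (β.hom.app (op O)).hom = Set.range (α.hom.app (op O)).hom := fun O => by
    ext z
    constructor
    · rintro ⟨k, rfl⟩
      rw [hβ]
      have h0 := congrArg ULift.down (hνι ((EtZar.zarToEt Y).obj O) k)
      obtain ⟨m, hm⟩ := QCoh.exists_kernel_lift (ηO i) O _
        ((ηO_app i O _).trans ((fst_appTop_eq_zero_iff i O _).1 h0))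
      exact ⟨ULift.up m, (hα O _).trans (congrArg ULift.up hm)⟩
    · rintro ⟨m, rfl⟩
      rw [hα]
      let x : Γ(O.toScheme, ⊤) := O.topIso.inv ((kernel.ι (ηO i)).app O m.down)
      have hx : O.topIso.hom x = (kernel.ι (ηO i)).app O m.down :=
        ConcreteCategory.congr_hom O.topIso.inv_hom_id _
      have h0 : (pullback.fst O.ι i).appTop x = 0 := (fst_appTop_eq_zero_iff i O x).2 (by
        rw [hx]; exact (ηO_app i O _).symm.trans (hηι O m.down))
      obtain ⟨k, hk⟩ := (SiteBase.secExact_iff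
        (ShortComplex.mk (kernel.ι (EtLim.GaPush i)) (EtLim.GaPush i) (kernel.condition _))
        ((EtZar.zarToEt Y).obj O)).1 ((ShortComplex.exact_of_f_is_kernel _ (kernelIsKernel _)).map_of_mono_of_preservesKernel
          (sheafToPresheaf Y.smallEtaleTopology AddCommGrpCat.{u + 1} ⋙
            (evaluation Y.Etaleᵒᵖ AddCommGrpCat.{u + 1}).obj (op ((EtZar.zarToEt Y).obj O)))
          inferInstance inferInstance) (ULift.up x) (ULift.down_injective h0)
      refine ⟨k, (hβ O k).trans (congrArg ULift.up ?_)⟩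
      rw [show ((kernel.ι (EtLim.GaPush i)).hom.app (op ((EtZar.zarToEt Y).obj O))).hom k = ULift.up x from hk]
      exact hx
  let e : ∀ O : Y.Opens, ((EtZar.resZar Y).obj K).obj.obj (op O) ≃+ ((ZarLift.lift Y).obj (Coh.toAb M)).obj.obj (op O) :=
    fun O => (AddMonoidHom.ofInjective (hβi O)).trans
      ((AddEquiv.addSubgroupCongr (SetLike.coe_injective (hr O))).trans (AddMonoidHom.ofInjective (hαi O)).symm)
  have he : ∀ O k, (α.hom.app (op O)).hom (e O k) = (β.hom.app (op O)).hom k := fun O k => by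
    have h := (AddMonoidHom.ofInjective (hαi O)).apply_symm_apply
      (AddEquiv.addSubgroupCongr (SetLike.coe_injective (hr O)) (AddMonoidHom.ofInjective (hβi O) k))
    exact congrArg Subtype.val h
  exact ⟨(fullyFaithfulSheafToPresheaf _ _).preimageIso (NatIso.ofComponents (fun O => (e O.unop).toAddCommGrpIso)
    fun {U V} a => AddCommGrpCat.hom_ext (AddMonoidHom.ext fun k => hαi V.unop (by
      refine (he V.unop _).trans ?_
      refine (NatTrans.naturality_apply β.hom a k).trans ?_
      refine (congrArg _ (he U.unop k).symm).trans ?_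
      exact (NatTrans.naturality_apply α.hom a (e U.unop k)).symm)))⟩

/-- vanishing of the étale cohomology of the kernel -/
theorem subsingleton_H_GaKer {X : Scheme.{u}} (g : Y ⟶ X) [IsFinite g] (q : ℕ)
    (hqc : ∀ M : X.Modules, Coh.IsQCoh M → Subsingleton (Coh.HH X M q)) :
    Subsingleton (EtCoh.H Y (GaKer i) q) := by
  haveI := EtZarCompare.zarCont Y
  obtain ⟨e⟩ := nonempty_resZar_iso i
  obtain ⟨e₁⟩ := EtZarCompare.nonempty_H_addEquiv (GaKer i) (isAffAcyclic_GaKer i) q
  obtain ⟨e₂⟩ := ZarLift.nonempty_H_addEquiv (X := Y) (Coh.toAb (kernel (ηO i))) q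
  have hM : Coh.IsQCoh (kernel (ηO i)) := QCoh.isQCoh_kernel QCoh.isQCoh_structureModule
    (QCoh.isQCoh_pushforward i QCoh.isQCoh_structureModule) _
  obtain ⟨e₃⟩ := QCoh.HH_push_of_isAffineHom g hM q
  haveI := hqc _ (QCoh.isQCoh_pushforward g hM)
  haveI : Subsingleton (Coh.HH Y (kernel (ηO i)) q) := e₃.toEquiv.subsingleton
  exact ((e₁.trans ((Sheaf.functorH _ q).mapIso e).addCommGroupIsoToAddEquiv).trans e₂.symm).toEquiv.subsingleton

end Groth.Agent.EtDev
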