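import Groth.Agent.EtDev.Core
import Groth.Agent.GalCd13.TrdegPrimary

/-! dévissage along a dimension function -/

set_option autoImplicit false
set_option linter.style.haveILetI false
set_option linter.unusedSectionVars false
set_option backward.isDefEq.respectTransparency false
set_option backward.isDefEq.respectTransparency.types false

universe u

open CategoryTheory CategoryTheory.Limits AlgebraicGeometry Opposite CategoryTheory.Abelian TopologicalSpace

namespace Groth.Agent.EtDev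

open Groth.Agent.EtFound Groth.Agent.CdFin

variable {X : Scheme.{u}} {ℓ : ℕ} {φ : ∀ Y : Scheme.{u}, (Y ⟶ X) → ℕ} [IsNoetherian X]

/-- killed sheaves -/
theorem van (h : Hyp ℓ φ) [Fact ℓ.Prime] : ∀ e, Van ℓ φ e := by
  intro e
  induction e with
  | zero =>
    intro Y g _ F _ hs q _
    exact subsingleton_H_of_isZero (isZero_of_supp_subset_empty (hs.trans fun y hy => Nat.not_lt_zero _ hy)) q
  | succ d ih =>
    exact van_succ h ih (fun Z g _ _ hd W hW hℓ q hq => subsingleton_H_integral h ih Z g hd W hW hℓ q hq)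
      (Fact.out : ℓ.Prime).pos

/-- sheaves killed by a power -/
theorem van_pow (h : Hyp ℓ φ) [Fact ℓ.Prime] {Y : Scheme.{u}} (g : Y ⟶ X) [IsFinite g] (q : ℕ) :
    ∀ (a : ℕ) (F : EtCoh.Ab Y), ℓ ^ a • 𝟙 F = 0 → EtPBC.supp F ⊆ {y | ptPhi φ g y < q} →
      Subsingleton (EtCoh.H Y F q) := by
  intro a
  induction a with
  | zero =>
    intro F hF _
    rw [pow_zero, one_nsmul] at hF
    exact subsingleton_H_of_isZero ((IsZero.iff_id_eq_zero _).2 hF) q
  | succ a iha =>
    intro F hF hs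
    obtain ⟨w, hw⟩ := imageSeq_left (ℓ • 𝟙 F)
    refine RatCoh13.subsingleton_H_middle hw q ?_ ?_
    · refine van h q Y g _ ?_ (mem_of_supp fun Ω _ _ ξ hξ => ?_) q le_rfl
      · show ℓ • 𝟙 (kernel (ℓ • 𝟙 F)) = 0
        rw [← cancel_mono (kernel.ι (ℓ • 𝟙 F)), zero_comp, Preadditive.nsmul_comp, Category.id_comp,
          ← Category.comp_id (kernel.ι (ℓ • 𝟙 F)), ← Preadditive.comp_nsmul]
        exact kernel.condition _
      · exact IsZero.of_mono ((EtCoh.stalk ξ).map (kernel.ι (ℓ • 𝟙 F)))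
          (isZero_stalk_of_notMem_supp ξ fun hh => hξ (hs hh))
    · refine iha _ ?_ (mem_of_supp fun Ω _ _ ξ hξ => ?_)
      · show ℓ ^ a • 𝟙 (Abelian.image (ℓ • 𝟙 F)) = 0
        rw [← cancel_epi (Abelian.factorThruImage (ℓ • 𝟙 F)), comp_zero, ← cancel_mono (Abelian.image.ι (ℓ • 𝟙 F)),
          zero_comp, Preadditive.comp_nsmul, Category.comp_id, Preadditive.nsmul_comp, Abelian.image.fac,
          ← mul_nsmul', ← pow_succ, hF]
      · exact IsZero.of_epi ((EtCoh.stalk ξ).map (Abelian.factorThruImage (ℓ • 𝟙 F)))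
          (isZero_stalk_of_notMem_supp ξ fun hh => hξ (hs hh))

/-- primary torsion sheaves -/
theorem subsingleton_H_primary (h : Hyp ℓ φ) [Fact ℓ.Prime] {Y : Scheme.{u}} (g : Y ⟶ X) [IsFinite g]
    {F : EtCoh.Ab Y} (hF : Dix.IsPrimaryTorsion ℓ F) (q : ℕ) (hs : ∀ y ∈ EtPBC.supp F, ptPhi φ g y < q) :
    Subsingleton (EtCoh.H Y F q) := by
  haveI := isNoetherian_of_isFinite g
  refine subsingleton_of_forall_eq 0 fun z => ?_
  obtain ⟨G, a, f, y, ha, rfl⟩ := GalCd13.exists_bounded_primary (Fact.out : ℓ.Prime) hF q z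
  have hI : ℓ ^ a • 𝟙 (Abelian.image f) = 0 := nsmul_id_of_epi (Abelian.factorThruImage f) ha
  have hsI : EtPBC.supp (Abelian.image f) ⊆ {x : Y | ptPhi φ g x < q} := mem_of_supp fun Ω _ _ ξ hξ =>
    IsZero.of_mono ((EtCoh.stalk ξ).map (Abelian.image.ι f)) (isZero_stalk_of_notMem_supp ξ fun hh => hξ (hs _ hh))
  haveI := van_pow h g q a (Abelian.image f) hI hsI
  rw [← Abelian.image.fac f, ← Ext.mk₀_comp_mk₀, ← Ext.comp_assoc_of_third_deg_zero,
    show y.comp (Ext.mk₀ (Abelian.factorThruImage f)) (add_zero q) = 0 from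
      Subsingleton.elim (α := EtCoh.H Y (Abelian.image f) q) _ _, Ext.zero_comp]

theorem isPrimaryTorsion_of_isLTorsion {Y : Scheme.{u}} {F : EtCoh.Ab Y} (hℓ : ℓ.Prime)
    (hF : EtAcyc.IsLTorsion {ℓ} F) : Dix.IsPrimaryTorsion ℓ F := fun U s x => by
  obtain ⟨V, g, m, hv, ⟨hm, hp⟩, h0⟩ := hF U s x
  refine ⟨V, g, hv, m.primeFactorsList.length, ?_⟩
  rwa [← Nat.eq_prime_pow_of_unique_prime_dvd hm.ne' fun {p} hp' hd => Set.mem_singleton_iff.1 (hp p hp' hd)]

end Groth.Agent.EtDev
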