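import Groth.Agent.EtDev.Setup
import Groth.Agent.S0145
import Groth.Agent.EtFound.NoethConstr
import Groth.Agent.EtLC12.QcqsAcyclic
import Groth.Agent.GalCd13.Devissage
import Groth.Agent.BCCrit13.Basic

/-! dévissage: reduction to constructible sheaves on integral schemes -/

set_option autoImplicit false
set_option linter.style.haveILetI false
set_option linter.unusedSectionVars false
set_option backward.isDefEq.respectTransparency false
set_option backward.isDefEq.respectTransparency.types false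
set_option maxHeartbeats 800000

universe u

open CategoryTheory CategoryTheory.Limits AlgebraicGeometry Opposite CategoryTheory.Abelian TopologicalSpace

namespace Groth.Agent.EtDev

open Groth.Agent.EtFound Groth.Agent.CdFin Groth.Agent.EtTrace

variable {X : Scheme.{u}} {ℓ : ℕ} {φ : ∀ Y : Scheme.{u}, (Y ⟶ X) → ℕ}

theorem isNoetherian_of_isFinite [IsNoetherian X] {Y : Scheme.{u}} (g : Y ⟶ X) [IsFinite g] : IsNoetherian Y := by
  haveI : IsLocallyNoetherian Y := LocallyOfFiniteType.isLocallyNoetherian g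
  haveI : CompactSpace ↥Y := QuasiCompact.compactSpace_of_compactSpace g
  exact ⟨⟩

variable {Y : Scheme.{u}} (g : Y ⟶ X) [IsFinite g] {d : ℕ}

/-- reduction to the closures of the points of top value -/
theorem subsingleton_H_of_closures [IsNoetherian X] (h : Hyp ℓ φ) (ih : Van ℓ φ d) (G : EtCoh.Ab Y)
    (hG : ℓ • 𝟙 G = 0) {C : Set Y} (hC : IsClosed C) (hle : ∀ y ∈ C, ptPhi φ g y ≤ d)
    (hsupp : EtPBC.supp G ⊆ C) (q : ℕ) (hq : d + 1 ≤ q)
    (hcl : ∀ η ∈ C, ptPhi φ g η = d → Subsingleton (EtCoh.H (Cl η) ((EtCoh.pull (clι η)).obj G) q)) :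
    Subsingleton (EtCoh.H Y G q) := by
  classical
  haveI := isNoetherian_of_isFinite g
  let T : Set Y := {z | z ∈ C ∧ ptPhi φ g z = d}
  have hT : T.Finite := by
    obtain ⟨S, hSf, hSc, hSi, hSZ⟩ := TopologicalSpace.NoetherianSpace.exists_finite_set_isClosed_irreducible hC
    refine (hSf.biUnion' (t := fun t ht => ({(hSi t ht).genericPoint} : Set Y))
      fun t ht => Set.finite_singleton _).subset ?_
    rintro z ⟨hz, hzd⟩
    rw [hSZ] at hz
    obtain ⟨t, ht, hzt⟩ := Set.mem_sUnion.1 hz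
    have hg := (hSi t ht).isGenericPoint_genericPoint (hSc t ht)
    refine Set.mem_iUnion₂.2 ⟨t, ht, ?_⟩
    have hgd : ptPhi φ g (hSi t ht).genericPoint ≤ d := hle _ (hSZ ▸ Set.mem_sUnion.2 ⟨t, ht, hg.mem⟩)
    by_contra hne
    have := h.ptPhi_lt g (hg.specializes hzt) (Ne.symm hne)
    omega
  let ι : Type u := T
  haveI : Finite ι := hT.to_subtype
  haveI := Fintype.ofFinite ι
  let jj : ∀ t : ι, Cl t.1 ⟶ Y := fun t => clι t.1
  let P : ι → EtCoh.Ab Y := fun t => (EtCoh.push (jj t)).obj ((EtCoh.pull (jj t)).obj G)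
  let ψ : G ⟶ ⨁ P := biproduct.lift fun t => (EtCoh.pullPushAdj (jj t)).unit.app G
  have hP : ℓ • 𝟙 (⨁ P) = 0 := by
    refine biproduct.hom_ext _ _ fun t => ?_
    haveI := BCCrit13.pull_additive (jj t)
    haveI : (EtCoh.push (jj t)).Additive := (EtCoh.pullPushAdj (jj t)).right_adjoint_additive
    rw [Preadditive.nsmul_comp, Category.id_comp, zero_comp, ← Category.comp_id (biproduct.π P t),
      ← Preadditive.comp_nsmul, show ℓ • 𝟙 (P t) = 0 from
        GalCd13.nsmul_map (EtCoh.push (jj t)) (GalCd13.nsmul_map (EtCoh.pull (jj t)) hG), comp_zero]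
  refine subsingleton_H_source g ih ψ hG hP (fun Ω _ _ ξ hξ => ?_) q hq
    (RatCoh13.subsingleton_H_biproduct P q fun t => subsingleton_H_push_finite (jj t) _ q (hcl t.1 t.2.1 t.2.2))
  set x := ξ.base (default : Spec (CommRingCat.of Ω)) with hx
  haveI : (EtCoh.stalk ξ).Additive := Functor.additive_of_preserves_binary_products _
  have hoff : ∀ t : ι, t.1 ≠ x → IsZero ((EtCoh.stalk ξ).obj (P t)) := fun t ht => by
    refine isZero_stalk_push_closed (jj t) _ ξ fun hr => ht ?_
    rw [← hx, range_clι, ← specializes_iff_mem_closure] at hr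
    by_contra hne
    have := h.ptPhi_lt g hr hne
    have h2 : ptPhi φ g t.1 = d := t.2.2
    omega
  by_cases hxT : x ∈ T
  · let t : ι := ⟨x, hxT⟩
    haveI : IsIso ((EtCoh.stalk ξ).map ((EtCoh.pullPushAdj (jj t)).unit.app G)) :=
      isIso_stalk_unit_closed (jj t) G ξ (by
        rw [range_clι]
        exact subset_closure rfl)
    haveI : IsIso ((EtCoh.stalk ξ).map (biproduct.π P t)) := by
      refine ⟨(EtCoh.stalk ξ).map (biproduct.ι P t), ?_, ?_⟩
      · have hid : (EtCoh.stalk ξ).map (∑ k, biproduct.π P k ≫ biproduct.ι P k) = 𝟙 _ := by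
          rw [RatCoh13.biproduct_total, CategoryTheory.Functor.map_id]
        rw [Functor.map_sum, Finset.sum_eq_single t (fun k _ hk => ?_) (by simp)] at hid
        · rw [← Functor.map_comp]; exact hid
        · rw [Functor.map_comp]
          exact (congrArg (· ≫ _) ((hoff k fun hh => hk (Subtype.ext hh)).eq_of_tgt
            ((EtCoh.stalk ξ).map (biproduct.π P k)) 0)).trans zero_comp
      · rw [← Functor.map_comp, biproduct.ι_π_self, CategoryTheory.Functor.map_id]
    have hfac : (EtCoh.stalk ξ).map ψ ≫ (EtCoh.stalk ξ).map (biproduct.π P t) =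
        (EtCoh.stalk ξ).map ((EtCoh.pullPushAdj (jj t)).unit.app G) := by
      rw [← Functor.map_comp, biproduct.lift_π]
    exact IsIso.of_isIso_fac_right hfac
  · have h1 : IsZero ((EtCoh.stalk ξ).obj G) := isZero_stalk_of_notMem_supp ξ fun hh =>
      hxT ⟨hsupp hh, le_antisymm (hle _ (hsupp hh)) hξ⟩
    have h2 : IsZero ((EtCoh.stalk ξ).obj (⨁ P)) := by
      rw [IsZero.iff_id_eq_zero, ← CategoryTheory.Functor.map_id, ← RatCoh13.biproduct_total P, Functor.map_sum]
      refine Finset.sum_eq_zero fun t _ => ?_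
      rw [Functor.map_comp]
      exact (congrArg (· ≫ _) ((hoff t fun hh => hxT (hh ▸ t.2)).eq_of_tgt
        ((EtCoh.stalk ξ).map (biproduct.π P t)) 0)).trans zero_comp
    exact ⟨0, h1.eq_of_src _ _, h2.eq_of_src _ _⟩

/-- the inductive step, given vanishing for constructible sheaves on integral schemes of value `≤ d` -/
theorem van_succ [IsNoetherian X] (h : Hyp ℓ φ) (ih : Van ℓ φ d)
    (core : ∀ (Z : Scheme.{u}) (g : Z ⟶ X) [IsIntegral Z] [IsFinite g], φ Z g ≤ d → ∀ W : EtCoh.Ab Z,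
      EtPBC.IsConstructible W → ℓ • 𝟙 W = 0 → ∀ q, d + 1 ≤ q → Subsingleton (EtCoh.H Z W q))
    (hℓ : 0 < ℓ) : Van ℓ φ (d + 1) := by
  intro Y g _ F hF hs q hq
  haveI := isNoetherian_of_isFinite g
  have hE : StableUnderSpecialization {y : Y | ptPhi φ g y < d + 1} :=
    fun x y hxy hx => (h.ptPhi_mono g hxy).trans_lt hx
  obtain ⟨J, i₁, i₂, D, c, hc, ⟨e⟩, hD⟩ := S0145.result Y _ hE F (isTorsion_of_nsmul_id hℓ hF) hs
  letI := i₁
  haveI := i₂
  haveI := EtLC12.QcqsAcyclic.preservesColimitsOfShape_HF Y q J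
  let hc' := isColimitOfPreserves (EtCoh.HF Y q) hc
  suffices hstage : ∀ j, Subsingleton (EtCoh.H Y (cokernel (ℓ • 𝟙 (D.obj j))) q) by
    have h0 : IsZero ((EtCoh.HF Y q).obj c.pt) := by
      refine (IsZero.iff_id_eq_zero _).2 (hc'.hom_ext fun j => ?_)
      have hcp : ℓ • 𝟙 c.pt = 0 := by
        have h1 : e.hom ≫ (ℓ • 𝟙 F) ≫ e.inv = ℓ • 𝟙 c.pt := by
          rw [Preadditive.nsmul_comp, Category.id_comp, Preadditive.comp_nsmul, e.hom_inv_id]
        rw [← h1, hF, zero_comp, comp_zero]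
      have hcond : (ℓ • 𝟙 (D.obj j)) ≫ c.ι.app j = 0 := by
        have h2 : c.ι.app j ≫ (ℓ • 𝟙 c.pt) = 0 := by rw [hcp]; exact comp_zero
        rw [Preadditive.nsmul_comp, Category.id_comp]
        rw [Preadditive.comp_nsmul] at h2
        exact (congrArg (ℓ • ·) (Category.comp_id (c.ι.app j)).symm).trans h2
      have hz : (EtCoh.HF Y q).map (cokernel.π (ℓ • 𝟙 (D.obj j))) = 0 :=
        (@AddCommGrpCat.isZero_of_subsingleton
          ((EtCoh.HF Y q).obj (cokernel (ℓ • 𝟙 (D.obj j)))) (hstage j)).eq_of_tgt _ _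
      show (EtCoh.HF Y q).map (c.ι.app j) ≫ _ = (EtCoh.HF Y q).map (c.ι.app j) ≫ _
      rw [← cokernel.π_desc (ℓ • 𝟙 (D.obj j)) (c.ι.app j) hcond, Functor.map_comp, hz, zero_comp, zero_comp,
        zero_comp]
    exact RatCoh13.subsingleton_H_of_iso e q (AddCommGrpCat.subsingleton_of_isZero h0)
  intro j
  obtain ⟨hcons, C, hCc, hCE, hsD⟩ := hD j
  let G := cokernel (ℓ • 𝟙 (D.obj j))
  have hGk : ℓ • 𝟙 G = 0 := by
    rw [← cancel_epi (cokernel.π (ℓ • 𝟙 (D.obj j))), comp_zero, Preadditive.comp_nsmul, Category.comp_id,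
      ← Category.id_comp (cokernel.π (ℓ • 𝟙 (D.obj j))), ← Preadditive.nsmul_comp]
    exact cokernel.condition _
  have hGc : EtPBC.IsConstructible G := isConstructible_of_epi hcons (cokernel.π (ℓ • 𝟙 (D.obj j)))
  have hsC : EtPBC.supp G ⊆ C := mem_of_supp fun Ω _ _ ξ hξ => by
    refine IsZero.of_epi ((EtCoh.stalk ξ).map (cokernel.π (ℓ • 𝟙 (D.obj j)))) ?_
    exact isZero_stalk_of_notMem_supp ξ fun hh => hξ (hsD hh)
  refine subsingleton_H_of_closures g h ih G hGk hCc (fun y hy => Nat.lt_succ_iff.1 (hCE hy)) hsC q hq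
    fun η _ hη => ?_
  haveI := BCCrit13.pull_additive (clι η)
  exact core (Cl η) (clι η ≫ g) (le_of_eq hη) _ (isConstructible_pull (clι η) hGc)
    (GalCd13.nsmul_map (EtCoh.pull (clι η)) hGk) q hq

end Groth.Agent.EtDev
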